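import Mathlib
import Cfsg.Agent.Chars.Count
import Cfsg.Agent.Chars.Values
import Cfsg.Agent.Chars.Construct
import Cfsg.Agent.Chars.Indicator
import Cfsg.Agent.PermGroups.PrimeExceptional.AltSquare

/-!
# Elements at which every character drops by four or vanishes: basic facts

`u` is an element such that every non-principal irreducible character `χ` has `χ 1 - χ u = 4` or `χ u = 0`.
-/

set_option autoImplicit false
set_option linter.unusedSectionVars false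

namespace Cfsg.Lib.FourDrop

open Cfsg.Lib.Chars
open scoped ComplexConjugate

universe w

variable {G : Type w} [Group G] [Fintype G]

local notation "⟪" a ", " b "⟫" => Cfsg.classInner a b

/-- The hypothesis on `u`. -/
def Drop (u : G) : Prop :=
  ∀ χ : Cfsg.IrrCharacter G, (χ : G → ℂ) ≠ (fun _ => (1 : ℂ)) →
    ((χ : G → ℂ) 1 - (χ : G → ℂ) u = 4 ∨ (χ : G → ℂ) u = 0)

/-- the trivial function -/
def triv : G → ℂ := fun _ => 1

/-- the conjugate function -/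
noncomputable def cj (f : G → ℂ) : G → ℂ := fun g => conj (f g)

theorem cj_apply (f : G → ℂ) (g : G) : cj f g = conj (f g) := rfl

theorem cj_cj (f : G → ℂ) : cj (cj f) = f := funext fun g => Complex.conj_conj _

theorem irr_triv : Cfsg.IsIrrCharacter G (triv : G → ℂ) := isIrrCharacter_one

theorem char_cj {f : G → ℂ} (h : Cfsg.IsCharacter G f) : Cfsg.IsCharacter G (cj f) :=
  IsCharacter.conjugate h

theorem mul_triv (f : G → ℂ) : f * triv = f := funext fun g => mul_one _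

theorem triv_mul (f : G → ℂ) : triv * f = f := funext fun g => one_mul _

theorem ip_move (a b c : G → ℂ) : ⟪a * b, c⟫ = ⟪a, cj b * c⟫ := by
  rw [classInner_def, classInner_def]
  congr 1
  refine Finset.sum_congr rfl fun g _ => ?_
  simp only [Pi.mul_apply, cj_apply, map_mul, Complex.conj_conj]
  ring

theorem ip_move' (a b c : G → ℂ) : ⟪a, b * c⟫ = ⟪a * cj b, c⟫ := by
  rw [ip_move, cj_cj]

theorem ip_symm_nat {a b : G → ℂ} {n : ℕ} (h : ⟪a, b⟫ = n) : ⟪b, a⟫ = n := by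
  rw [← classInner_conj_symm a b, h]
  exact Complex.conj_natCast n

theorem exists_mult_fun {F : G → ℂ} (hF : Cfsg.IsCharacter G F) :
    ∃ m : Cfsg.IrrCharacter G → ℕ, (∀ g, F g = ∑ ψ, (m ψ : ℂ) * (ψ : G → ℂ) g) ∧
      ∀ ψ : Cfsg.IrrCharacter G, ⟪F, (ψ : G → ℂ)⟫ = m ψ := by
  classical
  obtain ⟨m, rfl⟩ := IsCharacter.exists_decomp hF
  refine ⟨m, fun g => ?_, fun ψ => ?_⟩
  · simp [Finset.sum_apply, Pi.smul_apply, nsmul_eq_mul]
  · simp only [← Nat.cast_smul_eq_nsmul ℂ]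
    exact classInner_irrSum (fun φ => (m φ : ℂ)) ψ

theorem inner_nat {F H : G → ℂ} (hF : Cfsg.IsCharacter G F) (hH : Cfsg.IsCharacter G H) :
    ∃ n : ℕ, ⟪F, H⟫ = n := by
  classical
  obtain ⟨m, rfl⟩ := IsCharacter.exists_decomp hH
  choose k hk using fun ψ : Cfsg.IrrCharacter G => IsCharacter.exists_mult hF ψ.2
  refine ⟨∑ ψ, m ψ * k ψ, ?_⟩
  rw [classInner_sum_right, Nat.cast_sum]
  refine Finset.sum_congr rfl fun ψ _ => ?_
  rw [classInner_nsmul_right, hk, Nat.cast_mul]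
  try rw [nsmul_eq_mul]

theorem ip_eq_zero {a b : G → ℂ} (ha : Cfsg.IsIrrCharacter G a) (hb : Cfsg.IsIrrCharacter G b)
    (h : a ≠ b) : ⟪a, b⟫ = 0 :=
  classInner_irr_ne (χ := ⟨a, ha⟩) (ψ := ⟨b, hb⟩) fun e => h (congrArg Subtype.val e)

theorem ip_self {a : G → ℂ} (ha : Cfsg.IsIrrCharacter G a) : ⟪a, a⟫ = 1 := classInner_self_irr ha

/-- Removing constituents keeps a character. -/
theorem char_sub {F ψ : G → ℂ} (hF : Cfsg.IsCharacter G F) (hψ : Cfsg.IsIrrCharacter G ψ) {k n : ℕ}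
    (hn : ⟪F, ψ⟫ = n) (hkn : k ≤ n) : Cfsg.IsCharacter G (F - k • ψ) := by
  classical
  refine isCharacter_of_coeff (fun g h => ?_) fun φ => ?_
  · simp only [Pi.sub_apply, Pi.smul_apply]
    rw [isClassFunction_isChar hF g h, isClassFunction_isChar (isCharacter_of_irr hψ) g h]
  · obtain ⟨m, hm⟩ := IsCharacter.exists_mult hF φ.2
    rw [classInner_sub_left, classInner_nsmul_left, hm]
    by_cases e : ψ = (φ : G → ℂ)
    · subst e
      rw [hn] at hm
      have hnm : n = m := Nat.cast_injective hm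
      refine ⟨m - k, ?_⟩
      rw [ip_self φ.2, Nat.cast_sub (hnm ▸ hkn)]
      simp
    · exact ⟨m, by rw [ip_eq_zero hψ φ.2 e]; simp⟩

/-- Removing one constituent keeps a character. -/
theorem char_sub_one {F ψ : G → ℂ} (hF : Cfsg.IsCharacter G F) (hψ : Cfsg.IsIrrCharacter G ψ) {n : ℕ}
    (hn : ⟪F, ψ⟫ = n) (hkn : 1 ≤ n) : Cfsg.IsCharacter G (F - ψ) := by
  have h := char_sub hF hψ hn hkn
  rwa [one_nsmul] at h

theorem irr_of_norm {F : G → ℂ} (hF : Cfsg.IsCharacter G F) (h : ⟪F, F⟫ = 1) : Cfsg.IsIrrCharacter G F :=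
  isIrrCharacter_of_norm_one hF h

variable {u : G}

/-- A non-vanishing value is the degree minus four, and the degree is at least two. -/
theorem value (hd : Drop u) (χ : Cfsg.IrrCharacter G) (h1 : (χ : G → ℂ) ≠ triv) (h0 : (χ : G → ℂ) u ≠ 0) :
    ∃ n : ℕ, 2 ≤ n ∧ (χ : G → ℂ) 1 = n ∧ (χ : G → ℂ) u = (n : ℂ) - 4 := by
  obtain ⟨n, hn, h⟩ := IsIrrCharacter.apply_one χ.2
  have h4 := (hd χ h1).resolve_right h0
  have hv : (χ : G → ℂ) u = (n : ℂ) - 4 := by rw [← h, ← h4]; ring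
  refine ⟨n, ?_, h, hv⟩
  by_contra hlt
  have hn1 : n = 1 := by omega
  have hle := IsCharacter.norm_le (isCharacter_of_irr χ.2) u
  rw [hv, h, hn1] at hle
  norm_num at hle

/-- There is no non-principal linear character. -/
theorem linear_eq_triv (hd : Drop u) {χ : G → ℂ} (hχ : Cfsg.IsIrrCharacter G χ) (h1 : χ 1 = 1) : χ = triv := by
  by_contra hne
  obtain ⟨l, hl⟩ := exists_hom_of_deg_one (isCharacter_of_irr hχ) h1
  obtain ⟨n, hn, hn1, -⟩ := value hd ⟨χ, hχ⟩ hne (by rw [show ((⟨χ, hχ⟩ : Cfsg.IrrCharacter G) : G → ℂ) = χ from rfl, hl]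
                                                     exact Units.ne_zero _)
  change χ 1 = n at hn1
  rw [h1] at hn1
  have : (1 : ℕ) = n := Nat.cast_injective (R := ℂ) (by rw [Nat.cast_one]; exact hn1)
  omega

/-- A character of degree one is trivial. -/
theorem deg_one_eq_triv (hd : Drop u) {F : G → ℂ} (hF : Cfsg.IsCharacter G F) (h1 : F 1 = 1) : F = triv :=
  linear_eq_triv hd (isIrrCharacter_of_deg_one hF h1) h1

/-- The difference of degree and value, as a real number. -/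
theorem drop_re (hd : Drop u) (ψ : Cfsg.IrrCharacter G) :
    ((ψ : G → ℂ) = triv ∧ ((ψ : G → ℂ) 1 - (ψ : G → ℂ) u).re = 0) ∨
    ((ψ : G → ℂ) ≠ triv ∧ (ψ : G → ℂ) u ≠ 0 ∧ ((ψ : G → ℂ) 1 - (ψ : G → ℂ) u).re = 4) ∨
    ((ψ : G → ℂ) ≠ triv ∧ (ψ : G → ℂ) u = 0 ∧ 1 ≤ ((ψ : G → ℂ) 1 - (ψ : G → ℂ) u).re) := by
  by_cases h1 : (ψ : G → ℂ) = triv
  · exact Or.inl ⟨h1, by rw [h1]; simp [triv]⟩
  by_cases h0 : (ψ : G → ℂ) u = 0
  · obtain ⟨n, hn, h⟩ := IsIrrCharacter.apply_one ψ.2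
    refine Or.inr (Or.inr ⟨h1, h0, ?_⟩)
    rw [h0, sub_zero, h, Complex.natCast_re]
    exact_mod_cast hn
  · refine Or.inr (Or.inl ⟨h1, h0, ?_⟩)
    rw [(hd ψ h1).resolve_right h0]
    simp

/-- A character without trivial constituent that drops by four and does not vanish is irreducible. -/
theorem irr_of_four (hd : Drop u) {F : G → ℂ} (hF : Cfsg.IsCharacter G F) (h4 : F 1 - F u = 4) (h0 : F u ≠ 0)
    (htr : ⟪F, triv⟫ = 0) : Cfsg.IsIrrCharacter G F := by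
  classical
  obtain ⟨m, hm, hin⟩ := exists_mult_fun hF
  have hmt : ∀ ψ : Cfsg.IrrCharacter G, (ψ : G → ℂ) = triv → m ψ = 0 := by
    intro ψ e
    have := hin ψ
    rw [e, htr] at this
    exact_mod_cast this.symm
  have hsum : ∑ ψ, (m ψ : ℝ) * ((ψ : G → ℂ) 1 - (ψ : G → ℂ) u).re = 4 := by
    have h : ∑ ψ, (m ψ : ℂ) * ((ψ : G → ℂ) 1 - (ψ : G → ℂ) u) = 4 := by
      rw [← h4, hm 1, hm u, ← Finset.sum_sub_distrib]
      exact Finset.sum_congr rfl fun ψ _ => by ring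
    have := congrArg Complex.re h
    simpa [Complex.re_sum, Complex.mul_re] using this
  obtain ⟨ψ₀, hψ₀⟩ : ∃ ψ : Cfsg.IrrCharacter G, (m ψ : ℂ) * (ψ : G → ℂ) u ≠ 0 := by
    by_contra hno
    push Not at hno
    exact h0 (by rw [hm u]; exact Finset.sum_eq_zero fun ψ _ => hno ψ)
  have hm0 : m ψ₀ ≠ 0 := fun e => hψ₀ (by simp [e])
  have hu0 : (ψ₀ : G → ℂ) u ≠ 0 := right_ne_zero_of_mul hψ₀
  have hd0 : ((ψ₀ : G → ℂ) 1 - (ψ₀ : G → ℂ) u).re = 4 := by
    rcases drop_re hd ψ₀ with ⟨e, -⟩ | ⟨-, -, h⟩ | ⟨-, e, -⟩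
    · exact absurd (hmt ψ₀ e) hm0
    · exact h
    · exact absurd e hu0
  have hnn : ∀ ψ : Cfsg.IrrCharacter G, 0 ≤ (m ψ : ℝ) * ((ψ : G → ℂ) 1 - (ψ : G → ℂ) u).re := by
    intro ψ
    refine mul_nonneg (Nat.cast_nonneg _) ?_
    rcases drop_re hd ψ with ⟨-, h⟩ | ⟨-, -, h⟩ | ⟨-, -, h⟩ <;> linarith
  have hsplit := Finset.add_sum_erase Finset.univ
    (fun ψ : Cfsg.IrrCharacter G => (m ψ : ℝ) * ((ψ : G → ℂ) 1 - (ψ : G → ℂ) u).re) (Finset.mem_univ ψ₀)
  rw [hsum, hd0] at hsplit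
  have hm1 : (1 : ℝ) ≤ m ψ₀ := by exact_mod_cast Nat.one_le_iff_ne_zero.2 hm0
  have hrest : ∑ ψ ∈ Finset.univ.erase ψ₀, (m ψ : ℝ) * ((ψ : G → ℂ) 1 - (ψ : G → ℂ) u).re = 0 := by
    have h2 := Finset.sum_nonneg (s := Finset.univ.erase ψ₀) fun ψ _ => hnn ψ
    linarith
  have hone : m ψ₀ = 1 := by
    have : (m ψ₀ : ℝ) = 1 := by linarith
    exact_mod_cast this
  have hz : ∀ ψ, ψ ≠ ψ₀ → m ψ = 0 := by
    intro ψ hne
    have h := (Finset.sum_eq_zero_iff_of_nonneg fun φ _ => hnn φ).1 hrest ψ (by simp [hne])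
    rcases mul_eq_zero.1 h with h' | h'
    · exact_mod_cast h'
    · rcases drop_re hd ψ with ⟨e, -⟩ | ⟨-, -, h''⟩ | ⟨-, -, h''⟩
      · exact hmt ψ e
      · linarith
      · linarith
  have : F = (ψ₀ : G → ℂ) := funext fun g => by
    rw [hm g, Finset.sum_eq_single ψ₀ (fun ψ _ hne => by simp [hz ψ hne]) (by simp), hone]
    simp
  rw [this]
  exact ψ₀.2

/-- No degree two character takes the value `-2` at `u`. -/
theorem no_two (hd : Drop u) {ψ : G → ℂ} (hψ : Cfsg.IsIrrCharacter G ψ) (h1 : ψ 1 = 2) (hu : ψ u = -2) :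
    False := by
  classical
  have hc := isCharacter_of_irr hψ
  obtain ⟨m, hm, hin⟩ := exists_mult_fun (IsCharacter.mul hc (char_cj hc))
  have hsum : ∑ φ, (m φ : ℝ) * ((φ : G → ℂ) 1 - (φ : G → ℂ) u).re = 0 := by
    have h : ∑ φ, (m φ : ℂ) * ((φ : G → ℂ) 1 - (φ : G → ℂ) u) = 0 := by
      have e : (ψ * cj ψ) 1 - (ψ * cj ψ) u = 0 := by simp [cj_apply, h1, hu]
      rw [← e, hm 1, hm u, ← Finset.sum_sub_distrib]
      exact Finset.sum_congr rfl fun φ _ => by ring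
    have := congrArg Complex.re h
    simpa [Complex.re_sum, Complex.mul_re] using this
  have hz : ∀ φ : Cfsg.IrrCharacter G, (φ : G → ℂ) ≠ triv → m φ = 0 := by
    intro φ hne
    have h := (Finset.sum_eq_zero_iff_of_nonneg fun φ _ => mul_nonneg (Nat.cast_nonneg _) (by
      rcases drop_re hd φ with ⟨-, h⟩ | ⟨-, -, h⟩ | ⟨-, -, h⟩ <;> linarith)).1 hsum φ (Finset.mem_univ _)
    rcases mul_eq_zero.1 h with h' | h'
    · exact_mod_cast h'
    · rcases drop_re hd φ with ⟨e, -⟩ | ⟨-, -, h''⟩ | ⟨-, -, h''⟩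
      · exact absurd e hne
      · linarith
      · linarith
  have hmt : m (⟨triv, irr_triv⟩ : Cfsg.IrrCharacter G) = 1 := by
    have h := hin ⟨triv, irr_triv⟩
    rw [ip_move, mul_triv, cj_cj, ip_self hψ] at h
    exact_mod_cast h.symm
  have h := hm 1
  rw [Finset.sum_eq_single (⟨triv, irr_triv⟩ : Cfsg.IrrCharacter G)
    (fun φ _ hne => by rw [hz φ fun e => hne (Subtype.ext e)]; simp) (by simp), hmt] at h
  simp [cj_apply, h1, triv] at h
  norm_num [map_ofNat] at h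

/-- A negative value is `-1`, in degree three. -/
theorem neg_value (hd : Drop u) (ψ : Cfsg.IrrCharacter G) (h : ((ψ : G → ℂ) u).re < 0) :
    (ψ : G → ℂ) 1 = 3 ∧ (ψ : G → ℂ) u = -1 := by
  have h1 : (ψ : G → ℂ) ≠ triv := fun e => by rw [e] at h; simp [triv] at h; linarith
  have h0 : (ψ : G → ℂ) u ≠ 0 := fun e => by rw [e] at h; simp at h
  obtain ⟨n, hn, hn1, hv⟩ := value hd ψ h1 h0
  rw [hv] at h
  simp at h
  have hn4 : n < 4 := by exact_mod_cast h
  obtain rfl | rfl : n = 2 ∨ n = 3 := by omega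
  · exact (no_two hd ψ.2 (by rw [hn1]; norm_num) (by rw [hv]; norm_num)).elim
  · exact ⟨by rw [hn1]; norm_num, by rw [hv]; norm_num⟩

/-- A character with value `-2` at `u` has two constituents of degree three, or one twice. -/
theorem neg_constituents (hd : Drop u) {F : G → ℂ} (hF : Cfsg.IsCharacter G F) (hv : F u = -2) :
    ∃ (X : Cfsg.IrrCharacter G) (n : ℕ), (X : G → ℂ) 1 = 3 ∧ (X : G → ℂ) u = -1 ∧ ⟪F, (X : G → ℂ)⟫ = n ∧
      1 ≤ n ∧ (2 ≤ n ∨ ∃ (Y : Cfsg.IrrCharacter G) (k : ℕ), Y ≠ X ∧ (Y : G → ℂ) 1 = 3 ∧ (Y : G → ℂ) u = -1 ∧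
        ⟪F, (Y : G → ℂ)⟫ = k ∧ 1 ≤ k) := by
  classical
  obtain ⟨m, hm, hin⟩ := exists_mult_fun hF
  have hsum : ∑ ψ, (m ψ : ℝ) * ((ψ : G → ℂ) u).re = -2 := by
    have := congrArg Complex.re (hm u)
    rw [hv] at this
    simpa [Complex.re_sum, Complex.mul_re] using this.symm
  obtain ⟨X, hX⟩ : ∃ ψ : Cfsg.IrrCharacter G, (m ψ : ℝ) * ((ψ : G → ℂ) u).re < 0 := by
    by_contra hno
    push Not at hno
    have := Finset.sum_nonneg (s := Finset.univ) fun ψ _ => hno ψ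
    linarith
  have hXm : m X ≠ 0 := fun e => by rw [e] at hX; simp at hX
  have hXre : ((X : G → ℂ) u).re < 0 := by
    by_contra hc; push Not at hc
    exact absurd hX (not_lt.2 (mul_nonneg (Nat.cast_nonneg _) hc))
  obtain ⟨hX1, hXu⟩ := neg_value hd X hXre
  refine ⟨X, m X, hX1, hXu, hin X, Nat.one_le_iff_ne_zero.2 hXm, ?_⟩
  by_cases h2 : 2 ≤ m X
  · exact Or.inl h2
  have hX1' : m X = 1 := by omega
  have hsplit := Finset.add_sum_erase Finset.univ
    (fun ψ : Cfsg.IrrCharacter G => (m ψ : ℝ) * ((ψ : G → ℂ) u).re) (Finset.mem_univ X)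
  rw [hsum, hXu, hX1'] at hsplit
  simp [Finset.sum_erase_eq_sub, -Finset.sum_erase_eq_sub] at hsplit
  obtain ⟨Y, hYm, hY⟩ : ∃ ψ ∈ Finset.univ.erase X, (m ψ : ℝ) * ((ψ : G → ℂ) u).re < 0 := by
    by_contra hno
    push Not at hno
    have := Finset.sum_nonneg (s := Finset.univ.erase X) hno
    linarith
  have hYne := Finset.ne_of_mem_erase hYm
  have hYre : ((Y : G → ℂ) u).re < 0 := by
    by_contra hc; push Not at hc
    exact absurd hY (not_lt.2 (mul_nonneg (Nat.cast_nonneg _) hc))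
  obtain ⟨hY1, hYu⟩ := neg_value hd Y hYre
  exact Or.inr ⟨Y, m Y, hYne, hY1, hYu, hin Y, Nat.one_le_iff_ne_zero.2 fun e => by rw [e] at hY; simp at hY⟩

/-- A character with negative value has degree at least three. -/
theorem two_lt_of_neg (hd : Drop u) {F : G → ℂ} (hF : Cfsg.IsCharacter G F) (hv : (F u).re < 0) :
    (3 : ℝ) ≤ (F 1).re := by
  classical
  obtain ⟨m, hm, -⟩ := exists_mult_fun hF
  obtain ⟨X, hX⟩ : ∃ ψ : Cfsg.IrrCharacter G, (m ψ : ℝ) * ((ψ : G → ℂ) u).re < 0 := by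
    by_contra hno
    push Not at hno
    have h := Finset.sum_nonneg (s := Finset.univ) fun ψ _ => hno ψ
    have h' := congrArg Complex.re (hm u)
    simp [Complex.re_sum, Complex.mul_re] at h'
    linarith
  have hXm : 1 ≤ m X := Nat.one_le_iff_ne_zero.2 fun e => by rw [e] at hX; simp at hX
  have hXre : ((X : G → ℂ) u).re < 0 := by
    by_contra hc; push Not at hc
    exact absurd hX (not_lt.2 (mul_nonneg (Nat.cast_nonneg _) hc))
  have h3 := (neg_value hd X hXre).1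
  have h' := congrArg Complex.re (hm 1)
  simp [Complex.re_sum, Complex.mul_re] at h'
  have hle := Finset.single_le_sum (f := fun ψ : Cfsg.IrrCharacter G => (m ψ : ℝ) * ((ψ : G → ℂ) 1).re)
    (fun ψ _ => mul_nonneg (Nat.cast_nonneg _) (by
      obtain ⟨n, -, hn⟩ := IsIrrCharacter.apply_one ψ.2
      rw [hn]; simp)) (Finset.mem_univ X)
  simp only [h3] at hle
  have : (1 : ℝ) ≤ m X := by exact_mod_cast hXm
  rw [h']
  simp at hle
  nlinarith

end Cfsg.Lib.FourDrop
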