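import Mathlib
import Cfsg.Prelude.Def_CaseTheorems
import Cfsg.Agent.Classical.Misc.SmallPSL

/-!
# The case of a kernel of odd order
-/

set_option autoImplicit false
set_option linter.unusedSectionVars false

namespace Cfsg.Lib.FourDrop

open Subgroup

universe w

/-- What the characters give. -/
structure Data {G : Type w} [Group G] (u : G) (M : Subgroup G) [M.Normal] : Prop where
  iso : Nonempty (G ⧸ M ≃* alternatingGroup (Fin 5))
  notMem : u ∉ M
  sqMem : u * u ∈ M
  cent : Nat.card (centralizer ({u} : Set G)) = 4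
  perf : commutator G = ⊤

variable {G : Type w} [Group G] [Finite G] {u : G} {M : Subgroup G} [M.Normal]

theorem Data.card_quot (D : Data u M) : Nat.card (G ⧸ M) = 60 := by
  obtain ⟨e⟩ := D.iso
  rw [Nat.card_congr e.toEquiv, nat_card_alternatingGroup, Nat.card_eq_fintype_card, Fintype.card_fin]
  decide

theorem Data.simple (D : Data u M) : IsSimpleGroup (G ⧸ M) := by
  obtain ⟨e⟩ := D.iso
  haveI := alternatingGroup.isSimpleGroup (α := Fin 5) (by simp)
  exact e.isSimpleGroup

theorem Data.pow_four (D : Data u M) {x : G} (hx : x * u = u * x) : x ^ 4 = 1 := by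
  have h := pow_card_eq_one' (x := (⟨x, mem_centralizer_singleton_iff.2 hx⟩ : centralizer ({u} : Set G)))
  rw [D.cent] at h
  exact congrArg Subtype.val h

theorem eq_one_of_odd {H : Subgroup G} (hH : Odd (Nat.card H)) {x : G} (hx : x ∈ H) {k : ℕ}
    (h : x ^ (2 ^ k) = 1) : x = 1 := by
  have h2 : x ^ Nat.card H = 1 := congrArg Subtype.val (pow_card_eq_one' (x := (⟨x, hx⟩ : H)))
  have h3 := pow_gcd_eq_one.2 ⟨h2, h⟩
  rwa [(Nat.Coprime.pow_right k (Nat.coprime_two_right.2 hH)), pow_one] at h3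

theorem Data.comm_u_odd (D : Data u M) {H : Subgroup G} (hH : Odd (Nat.card H)) {x : G} (hx : x ∈ H)
    (hc : x * u = u * x) : x = 1 :=
  eq_one_of_odd hH hx (k := 2) (D.pow_four hc)

/-- A fixed point free element whose square centralises forces commutativity. -/
theorem comm_of_fpf {H : Subgroup G} {t : G} (hn : ∀ x ∈ H, t * x * t⁻¹ ∈ H)
    (hsq : ∀ x ∈ H, t * t * x = x * (t * t)) (hf : ∀ x ∈ H, x * t = t * x → x = 1) :
    ∀ x ∈ H, ∀ y ∈ H, x * y = y * x := by
  intro x hx y hy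
  let φ : H →* H := MonoidHom.mk' (fun a => ⟨t * a * t⁻¹, hn a a.2⟩) fun a b => Subtype.ext (by simp)
  have h1 : MonoidHom.FixedPointFree φ := fun a ha => Subtype.ext (hf a a.2 (by
    have e : t * a * t⁻¹ = a := congrArg Subtype.val ha
    rw [mul_inv_eq_iff_eq_mul] at e
    exact e.symm))
  have h2 : Function.Involutive φ := fun a => Subtype.ext (by
    show t * (t * a * t⁻¹) * t⁻¹ = a
    calc t * (t * a * t⁻¹) * t⁻¹ = t * t * a * (t * t)⁻¹ := by group
      _ = a := by rw [hsq a a.2, mul_inv_cancel_right])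
  exact congrArg Subtype.val (h1.commute_all_of_involutive h2 ⟨x, hx⟩ ⟨y, hy⟩).eq

theorem Data.le_kernel (D : Data u M) {N : Subgroup G} (hN : N.Normal) (hodd : Odd (Nat.card N)) : N ≤ M := by
  haveI := D.simple
  rcases (hN.map (QuotientGroup.mk' M) (QuotientGroup.mk'_surjective M)).eq_bot_or_eq_top with h | h
  · rw [Subgroup.map_eq_bot_iff, QuotientGroup.ker_mk'] at h
    exact h
  · exfalso
    have h1 := card_map_dvd (H := N) (QuotientGroup.mk' M)
    rw [h, card_top, D.card_quot] at h1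
    obtain ⟨a, ha⟩ := hodd
    obtain ⟨b, hb⟩ := h1
    omega

theorem oddCore_le (h : ∀ N : Subgroup G, N.Normal → Odd (Nat.card N) → N ≤ M) : Cfsg.oddCore G ≤ M :=
  sSup_le fun N hN => h N hN.1 (Nat.coprime_two_right.1 hN.2)

theorem le_oddCore (hM : Odd (Nat.card M)) : M ≤ Cfsg.oddCore G :=
  le_sSup ⟨inferInstance, Nat.coprime_two_right.2 hM⟩

/-- The case of a kernel of odd order. -/
theorem Data.odd_case (D : Data u M) (hM : Odd (Nat.card M)) :
    IsMulCommutative ↥(Cfsg.oddCore G) ∧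
      (Nonempty (G ⧸ Cfsg.oddCore G ≃* Matrix.ProjectiveSpecialLinearGroup (Fin 2) (ZMod 5)) ∧ orderOf u = 2) := by
  have hO : Cfsg.oddCore G = M := le_antisymm (oddCore_le fun N hN h => D.le_kernel hN h) (le_oddCore hM)
  have hu2 : u * u = 1 := eq_one_of_odd hM D.sqMem (k := 1) (by
    have := D.pow_four (x := u) rfl
    rw [← pow_two, ← pow_mul]; exact this)
  have hu : u ≠ 1 := fun e => D.notMem (e ▸ one_mem M)
  haveI := Fact.mk (show Nat.Prime 5 by norm_num)
  refine ⟨⟨⟨fun x y => Subtype.ext ?_⟩⟩, ?_, orderOf_eq_prime (by rw [pow_two, hu2]) hu⟩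
  · exact comm_of_fpf (H := M) (t := u) (fun a ha => ‹M.Normal›.conj_mem a ha u)
      (fun a _ => by rw [hu2, one_mul, mul_one]) (fun a ha => D.comm_u_odd hM ha) _ (hO ▸ x.2) _ (hO ▸ y.2)
  · obtain ⟨e⟩ := D.iso
    obtain ⟨f⟩ := Cfsg.Lib.Classical.SmallPSL.psl_five (F := ZMod 5) (ZMod.card 5)
    exact ⟨(QuotientGroup.quotientMulEquivOfEq hO).trans (e.trans f.symm)⟩

end Cfsg.Lib.FourDrop
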