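import Mathlib
import Cfsg.Agent.Chars.FourDrop.OddKernel
import Cfsg.Agent.Chars.PrimePairs
import Cfsg.Agent.PGroups.CommutatorIndexFour

/-!
# A kernel of even order: the Sylow subgroup and the normal complement
-/

set_option autoImplicit false
set_option linter.unusedSectionVars false
set_option linter.style.haveILetI false

namespace Cfsg.Lib.FourDrop

open Subgroup Cfsg.Lib.Chars
open scoped commutatorElement

universe w

/-- Linear characters are at most as many as the centraliser of any element. -/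
theorem index_commutator_le (S : Type w) [Group S] [Finite S] (v : S) :
    (commutator S).index ≤ Nat.card (centralizer ({v} : Set S)) := by
  classical
  haveI := Fintype.ofFinite S
  rw [← PrimePairs.card_linear S, Nat.card_eq_fintype_card, Fintype.card_subtype]
  have h := sum_norm_sq_irr v
  have h1 : ∀ χ : Cfsg.IrrCharacter S, (χ : S → ℂ) 1 = 1 → ‖(χ : S → ℂ) v‖ ^ 2 = 1 := by
    intro χ hχ
    obtain ⟨l, hl⟩ := exists_hom_of_deg_one (isCharacter_of_irr χ.2) hχ
    rw [hl]
    have hpow : ((l v : ℂˣ) : ℂ) ^ orderOf v = 1 := by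
      rw [← Units.val_pow_eq_pow_val, ← map_pow, pow_orderOf_eq_one, map_one, Units.val_one]
    simp [Complex.norm_eq_one_of_pow_eq_one hpow (orderOf_pos v).ne']
  have h2 := Finset.sum_le_sum_of_subset_of_nonneg
    (Finset.subset_univ (Finset.univ.filter fun χ : Cfsg.IrrCharacter S => (χ : S → ℂ) 1 = 1))
    (f := fun χ : Cfsg.IrrCharacter S => ‖(χ : S → ℂ) v‖ ^ 2) (fun _ _ _ => sq_nonneg _)
  rw [h, Finset.sum_congr rfl (fun χ hχ => h1 χ (Finset.mem_filter.1 hχ).2), Finset.sum_const, nsmul_one] at h2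
  exact_mod_cast h2

variable {G : Type w} [Group G] [Finite G] {u : G} {M : Subgroup G} [M.Normal]

/-- A Sylow subgroup through `u`, meeting the kernel in a cyclic group. -/
theorem Data.sylow (D : Data u M) (hM : ¬ Odd (Nat.card M)) :
    ∃ S : Sylow 2 G, u ∈ (S : Subgroup G) ∧ IsCyclic ↥((S : Subgroup G) ⊓ M) ∧
      Nat.card (S : Subgroup G) = 4 * Nat.card ↥((S : Subgroup G) ⊓ M) ∧
      Nat.card ↥((S : Subgroup G) ⊓ M) = 2 ^ (Nat.card M).factorization 2 ∧
      1 ≤ (Nat.card M).factorization 2 ∧ commutator ↥(S : Subgroup G) = M.subgroupOf S ∧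
      ∃ C : Subgroup ↥(S : Subgroup G), IsCyclic C ∧ C.index = 2 ∧ M.subgroupOf S ≤ C := by
  classical
  haveI := Fact.mk Nat.prime_two
  have hzu : IsPGroup 2 (zpowers u) := by
    have : orderOf u ∣ 2 ^ 2 := orderOf_dvd_of_pow_eq_one (D.pow_four (x := u) rfl)
    obtain ⟨j, -, hj⟩ := (Nat.dvd_prime_pow Nat.prime_two).1 this
    exact IsPGroup.of_card (Nat.card_zpowers u ▸ hj)
  obtain ⟨S, hS⟩ := hzu.exists_le_sylow
  have huS : u ∈ (S : Subgroup G) := hS (mem_zpowers u)
  set v := (Nat.card M).factorization 2 with hv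
  have hv1 : 1 ≤ v := Nat.Prime.factorization_pos_of_dvd Nat.prime_two Nat.card_pos.ne'
    (even_iff_two_dvd.1 (Nat.not_odd_iff_even.1 hM))
  have hG : Nat.card G = 60 * Nat.card M := by
    rw [card_eq_card_quotient_mul_card_subgroup M, D.card_quot]
  have h60 : (60 : ℕ).factorization 2 = 2 := by
    rw [show (60 : ℕ) = 2 ^ 2 * 15 from rfl, Nat.factorization_mul (by norm_num) (by norm_num),
      Nat.Prime.factorization_pow Nat.prime_two]
    simp [Nat.factorization_eq_zero_of_not_dvd (show ¬ 2 ∣ 15 by norm_num)]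
  have hScard : Nat.card (S : Subgroup G) = 4 * 2 ^ v := by
    rw [S.card_eq_multiplicity, hG, Nat.factorization_mul (by norm_num) Nat.card_pos.ne', Finsupp.add_apply, h60,
      pow_add]
    rfl
  set π := QuotientGroup.mk' M
  have hπ : Function.Surjective π := QuotientGroup.mk'_surjective M
  set f := π.comp (S : Subgroup G).subtype with hf
  have hrange : Nat.card f.range = 4 := by
    rw [hf, MonoidHom.range_comp, Subgroup.range_subtype, ← Sylow.coe_mapSurjective hπ S,
      Sylow.card_eq_multiplicity, D.card_quot, h60]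
    rfl
  have hker : f.ker = M.subgroupOf S := by
    rw [hf, ← MonoidHom.comap_ker, QuotientGroup.ker_mk']
    rfl
  have hNeq : Nat.card (M.subgroupOf (S : Subgroup G)) = Nat.card ↥((S : Subgroup G) ⊓ M) := by
    rw [← inf_subgroupOf_left]
    exact Nat.card_congr (subgroupOfEquivOfLe inf_le_left).toEquiv
  have hidx : (M.subgroupOf (S : Subgroup G)).index = 4 := by rw [← hker, index_ker, hrange]
  have hNcard : Nat.card (M.subgroupOf (S : Subgroup G)) = 2 ^ v := by
    have h := (M.subgroupOf (S : Subgroup G)).card_mul_index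
    rw [hidx, hScard] at h
    omega
  -- the derived subgroup
  have hle : commutator ↥(S : Subgroup G) ≤ M.subgroupOf S := by
    rw [_root_.commutator_def, commutator_le]
    intro a _ b _
    rw [← hker, MonoidHom.mem_ker, map_commutatorElement, commutatorElement_eq_one_iff_commute]
    haveI := IsPGroup.isMulCommutative_of_card_eq_prime_sq (p := 2) (G := f.range) hrange
    exact congrArg Subtype.val ((‹IsMulCommutative f.range›).is_comm.comm ⟨f a, a, rfl⟩ ⟨f b, b, rfl⟩)
  have hC4 : Nat.card (centralizer ({(⟨u, huS⟩ : (S : Subgroup G))} : Set ↥(S : Subgroup G))) ≤ 4 := by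
    rw [← D.cent]
    refine Nat.card_le_card_of_injective (fun x => ⟨x.1.1, ?_⟩) fun a b e => ?_
    · exact mem_centralizer_singleton_iff.2 (congrArg Subtype.val (mem_centralizer_singleton_iff.1 x.2))
    · exact Subtype.ext (Subtype.ext (congrArg (fun z : centralizer ({u} : Set G) => (z : G)) e))
  have hidx' : (commutator ↥(S : Subgroup G)).index = 4 := by
    refine le_antisymm ((index_commutator_le _ (⟨u, huS⟩ : (S : Subgroup G))).trans hC4) ?_
    rw [← hidx]
    exact Nat.le_of_dvd (Nat.pos_of_ne_zero FiniteIndex.index_ne_zero) (index_dvd_of_le hle)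
  have hcomm : commutator ↥(S : Subgroup G) = M.subgroupOf S := by
    refine eq_of_le_of_card_ge hle (le_of_eq ?_)
    have h1 := (commutator ↥(S : Subgroup G)).card_mul_index
    have h2 := (M.subgroupOf (S : Subgroup G)).card_mul_index
    rw [hidx'] at h1
    rw [hidx] at h2
    omega
  -- maximal class
  have hP : IsPGroup 2 ↥(S : Subgroup G) := S.isPGroup'
  haveI := hP.isNilpotent
  have hSn : Nat.card (S : Subgroup G) = 2 ^ (v + 2) := by rw [hScard, pow_add]; ring
  obtain ⟨C, hC, hCi⟩ := Cfsg.Lib.MaxClass.exists_cyclic_index_two (v + 2) _ hSn (by omega)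
    (Cfsg.Lib.IndexFour.class_eq (v + 2) _ hSn (by omega) hidx')
  have hMC : M.subgroupOf (S : Subgroup G) ≤ C := by
    rw [← hcomm, _root_.commutator_def, commutator_le]
    intro a _ b _
    simp only [commutatorElement_def, mul_mem_iff_of_index_two hCi, inv_mem_iff]
    tauto
  refine ⟨S, huS, ?_, by rw [hScard, ← hNeq, hNcard], by rw [← hNeq, hNcard], hv1, hcomm, C, hC, hCi, hMC⟩
  haveI := hC
  haveI : IsCyclic (M.subgroupOf (S : Subgroup G)) := isCyclic_of_le hMC
  rw [← inf_subgroupOf_left] at this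
  haveI := this
  exact isCyclic_of_surjective _ (subgroupOfEquivOfLe (inf_le_left : (S : Subgroup G) ⊓ M ≤ S)).surjective

/-- The normal complement. -/
theorem Data.complement (D : Data u M) (hM : ¬ Odd (Nat.card M)) (S : Sylow 2 G)
    (hcy : IsCyclic ↥((S : Subgroup G) ⊓ M))
    (hcard : Nat.card ↥((S : Subgroup G) ⊓ M) = 2 ^ (Nat.card M).factorization 2) :
    Odd (Nat.card (Cfsg.oddCore G)) ∧ Cfsg.oddCore G ≤ M ∧
      ∀ m ∈ M, ∃ o ∈ Cfsg.oddCore G, ∃ n ∈ (S : Subgroup G) ⊓ M, m = o * n := by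
  classical
  haveI := Fact.mk Nat.prime_two
  have hc : Nat.card (((S : Subgroup G) ⊓ M).subgroupOf M) = 2 ^ (Nat.card M).factorization 2 := by
    rw [Nat.card_congr (subgroupOfEquivOfLe inf_le_right).toEquiv, hcard]
  let P : Sylow 2 M := Sylow.ofCard (((S : Subgroup G) ⊓ M).subgroupOf M) hc
  have hP : IsCyclic P := by
    show IsCyclic ↥(((S : Subgroup G) ⊓ M).subgroupOf M)
    haveI := hcy
    exact isCyclic_of_surjective _ (subgroupOfEquivOfLe (inf_le_right : (S : Subgroup G) ⊓ M ≤ M)).symm.surjective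
  have hmin : (Nat.card M).minFac = 2 :=
    (Nat.minFac_eq_two_iff _).2 (even_iff_two_dvd.1 (Nat.not_odd_iff_even.1 hM))
  have hcompl := IsCyclic.isComplement' hmin hP
  set O' := (MonoidHom.transferSylow P (hP.normalizer_le_centralizer hmin)).ker with hO'
  have hidx : O'.index = Nat.card (P : Subgroup M) := hcompl.symm.index_eq_card
  have hodd : Odd (Nat.card O') := by
    have h1 := hcompl.card_mul
    have h2 := (Nat.card M)
    by_contra he
    obtain ⟨k, hk⟩ := even_iff_two_dvd.1 (Nat.not_odd_iff_even.1 he)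
    have h3 := P.not_dvd_index
    have h4 := (P : Subgroup M).card_mul_index
    rw [← h1, hk] at h4
    have h5 : (P : Subgroup M).index = 2 * k :=
      Nat.eq_of_mul_eq_mul_left (Nat.card_pos (α := (P : Subgroup M))) (by rw [h4]; ring)
    exact h3 (h5 ▸ dvd_mul_right 2 k)
  set O := O'.map M.subtype with hO
  have hOodd : Odd (Nat.card O) := by
    rw [hO, card_map_of_injective M.subtype_injective]
    exact hodd
  -- it consists of the elements of odd order
  have hchar : ∀ x ∈ M, Odd (orderOf x) → x ∈ O := by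
    intro x hx hox
    refine ⟨⟨x, hx⟩, ?_, rfl⟩
    have h1 : orderOf (QuotientGroup.mk' O' ⟨x, hx⟩) ∣ orderOf x := by
      rw [← Subgroup.orderOf_mk x hx]
      exact orderOf_map_dvd _ _
    have h2 : orderOf (QuotientGroup.mk' O' ⟨x, hx⟩) ∣ 2 ^ (Nat.card M).factorization 2 := by
      rw [← hc, show Nat.card (((S : Subgroup G) ⊓ M).subgroupOf M) = Nat.card (P : Subgroup M) from rfl, ← hidx,
        Subgroup.index_eq_card]
      exact orderOf_dvd_natCard _
    have h3 := Nat.eq_one_of_dvd_coprimes (Nat.Coprime.pow_right _ (Nat.coprime_two_right.2 hox)) h1 h2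
    exact (QuotientGroup.eq_one_iff _).1 (orderOf_eq_one_iff.1 h3)
  have hOM : O ≤ M := map_subtype_le _
  have hordO : ∀ x ∈ O, Odd (orderOf x) := fun x hx => Odd.of_dvd_nat hOodd (Subgroup.orderOf_dvd_natCard _ hx)
  have hOn : O.Normal := ⟨fun x hx g => hchar _ (‹M.Normal›.conj_mem x (hOM hx) g) (by
    rw [show g * x * g⁻¹ = MulAut.conj g x from rfl, MulEquiv.orderOf_eq]
    exact hordO x hx)⟩
  have hcore : Cfsg.oddCore G = O := by
    refine le_antisymm (oddCore_le fun N hN h x hx => ?_) (le_sSup ⟨hOn, Nat.coprime_two_right.2 hOodd⟩)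
    exact hchar x (D.le_kernel hN h hx) (Odd.of_dvd_nat h (Subgroup.orderOf_dvd_natCard _ hx))
  rw [hcore]
  refine ⟨hOodd, hOM, fun m hm => ?_⟩
  obtain ⟨o, ho, n, hn, e⟩ := mem_sup_of_normal_left.1
    (show (⟨m, hm⟩ : M) ∈ O' ⊔ (P : Subgroup M) by rw [hcompl.sup_eq_top]; exact mem_top _)
  exact ⟨o, ⟨o, ho, rfl⟩, n, hn, (congrArg Subtype.val e).symm⟩

end Cfsg.Lib.FourDrop
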