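import Mathlib
import Cfsg.Agent.Chars.FourDrop.EvenSylow
import Cfsg.Agent.S3378

/-!
# A kernel of even order: the quotient by the odd core, and the odd core
-/

set_option autoImplicit false
set_option linter.unusedSectionVars false
set_option linter.style.haveILetI false

namespace Cfsg.Lib.FourDrop

open Subgroup Equiv
open scoped commutatorElement

universe w

theorem alt_four : ∀ a : alternatingGroup (Fin 5), a * a * (a * a) = 1 → a * a = 1 := by decide +kernel

/-- a double transposition -/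
def altInv : alternatingGroup (Fin 5) := ⟨swap 0 1 * swap 2 3, Equiv.Perm.mem_alternatingGroup.2 (by decide)⟩

theorem alt_invol_conj : ∀ b : alternatingGroup (Fin 5), b * b = 1 → b ≠ 1 → ∃ c, c * altInv * c⁻¹ = b := by
  decide +kernel

theorem alt_conj (a b : alternatingGroup (Fin 5)) (ha : a * a = 1) (ha1 : a ≠ 1) (hb : b * b = 1) (hb1 : b ≠ 1) :
    ∃ c, c * a * c⁻¹ = b := by
  obtain ⟨c, rfl⟩ := alt_invol_conj a ha ha1
  obtain ⟨d, rfl⟩ := alt_invol_conj b hb hb1
  exact ⟨d * c⁻¹, by group⟩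

variable {G : Type w} [Group G] [Finite G] {u : G} {M : Subgroup G} [M.Normal]

set_option maxHeartbeats 1000000 in
theorem Data.even_case (D : Data u M) (hM : ¬ Odd (Nat.card M)) :
    IsMulCommutative ↥(Cfsg.oddCore G) ∧
      (Nonempty (G ⧸ Cfsg.oddCore G ≃* Matrix.SpecialLinearGroup (Fin 2) (ZMod 5)) ∧ orderOf u = 4) := by
  classical
  haveI := Fact.mk Nat.prime_two
  obtain ⟨S, huS, hcy, hSN, hNc, hv, hcomm, C, hC, hCi, hMC⟩ := D.sylow hM
  obtain ⟨hOodd, hOM, hdec⟩ := D.complement hM S hcy hNc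
  set O := Cfsg.oddCore G with hOdef
  haveI hOn : O.Normal := Cfsg.pPrimeCore_normal 2 G
  set N := (S : Subgroup G) ⊓ M with hN
  have hSO : ∀ x ∈ (S : Subgroup G), x ∈ O → x = 1 := by
    intro x hxS hxO
    obtain ⟨k, hk⟩ := S.isPGroup' ⟨x, hxS⟩
    exact eq_one_of_odd hOodd hxO (congrArg Subtype.val hk)
  set π := QuotientGroup.mk' O with hπdef
  have hπ : Function.Surjective π := QuotientGroup.mk'_surjective O
  have hπeq : ∀ x y, π x = π y ↔ x⁻¹ * y ∈ O := fun x y => QuotientGroup.eq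
  have hπinj : ∀ x ∈ (S : Subgroup G), ∀ y ∈ (S : Subgroup G), π x = π y → x = y := fun x hx y hy h =>
    inv_mul_eq_one.1 (hSO _ (mul_mem (inv_mem hx) hy) ((hπeq x y).1 h))
  have hMN : M.map π = N.map π := by
    refine le_antisymm ?_ (map_mono inf_le_right)
    rintro _ ⟨m, hm, rfl⟩
    obtain ⟨o, ho, n, hn, rfl⟩ := hdec m hm
    exact ⟨n, hn, by rw [map_mul, show π o = 1 from (QuotientGroup.eq_one_iff o).2 ho, one_mul]⟩
  haveI hMbn : (M.map π).Normal := ‹M.Normal›.map π hπ
  haveI hMbc : IsCyclic (M.map π) := by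
    rw [hMN]
    haveI := hcy
    exact isCyclic_of_surjective _ (π.subgroupMap_surjective N)
  -- the kernel is central modulo the odd core
  have hcentral : ∀ g : G, ∀ m ∈ M, π g * π m = π m * π g := by
    intro g m hm
    set ψ : G →* MulAut (M.map π) := MulAut.conjNormal.comp π with hψ
    have hker : commutator G ≤ ψ.ker := by
      rw [_root_.commutator_def, commutator_le]
      intro a _ b _
      rw [MonoidHom.mem_ker, map_commutatorElement, commutatorElement_eq_one_iff_commute]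
      exact (IsCyclic.mulAutMulEquiv (M.map π)).injective (by rw [map_mul, map_mul, mul_comm])
    rw [D.perf] at hker
    have h1 : ψ g = 1 := hker (mem_top g)
    have h2 := congrArg (fun φ : MulAut (M.map π) => ((φ ⟨π m, mem_map_of_mem π hm⟩ : M.map π) : G ⧸ O)) h1
    simp only [hψ, MonoidHom.comp_apply, MulAut.conjNormal_apply, MulAut.one_apply] at h2
    exact mul_inv_eq_iff_eq_mul.1 h2
  have hNcent : ∀ s ∈ (S : Subgroup G), ∀ n ∈ N, s * n = n * s := fun s hs n hn =>
    hπinj _ (mul_mem hs hn.1) _ (mul_mem hn.1 hs) (by rw [map_mul, map_mul]; exact hcentral s n hn.2)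
  -- the map `s ↦ [u, s]`
  have huu : u * u ∈ N := ⟨mul_mem huS huS, D.sqMem⟩
  have hcS : ∀ s : (S : Subgroup G), ⁅u, (s : G)⁆ ∈ N := by
    intro s
    have h := commutator_mem_commutator (mem_top (⟨u, huS⟩ : (S : Subgroup G))) (mem_top s)
    rw [← _root_.commutator_def, hcomm] at h
    refine ⟨?_, h⟩
    show ⁅u, (s : G)⁆ ∈ (S : Subgroup G)
    exact (⁅(⟨u, huS⟩ : (S : Subgroup G)), s⁆ : (S : Subgroup G)).2
  let φ : (S : Subgroup G) →* N := MonoidHom.mk' (fun s => ⟨⁅u, (s : G)⁆, hcS s⟩) fun s t => Subtype.ext (by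
    show ⁅u, (s : G) * t⁆ = ⁅u, (s : G)⁆ * ⁅u, (t : G)⁆
    calc ⁅u, (s : G) * t⁆ = ⁅u, (s : G)⁆ * ((s : G) * ⁅u, (t : G)⁆ * (s : G)⁻¹) := by
          simp only [commutatorElement_def]; group
      _ = _ := by rw [hNcent s s.2 _ (hcS t), mul_inv_cancel_right])
  have hkerc : Nat.card φ.ker ≤ 4 := by
    rw [← D.cent]
    refine Nat.card_le_card_of_injective (fun x => ⟨x.1.1, ?_⟩) fun a b e => ?_
    · have h : ⁅u, (x.1 : G)⁆ = 1 := congrArg Subtype.val x.2
      exact mem_centralizer_singleton_iff.2 (commutatorElement_eq_one_iff_mul_comm.1 h).symm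
    · exact Subtype.ext (Subtype.ext (congrArg (fun z : centralizer ({u} : Set G) => (z : G)) e))
  have hrange : Nat.card φ.range ≤ 2 := by
    have hsub : ∀ y ∈ φ.range, y ^ 2 = 1 := by
      rintro _ ⟨s, rfl⟩
      refine Subtype.ext ?_
      show ⁅u, (s : G)⁆ ^ 2 = 1
      have hcu : u * ⁅u, (s : G)⁆ * u⁻¹ = ⁅u, (s : G)⁆ := by rw [hNcent u huS _ (hcS s), mul_inv_cancel_right]
      have h1 : ⁅u * u, (s : G)⁆ = 1 := commutatorElement_eq_one_iff_mul_comm.2 (hNcent s s.2 _ huu).symm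
      calc ⁅u, (s : G)⁆ ^ 2 = (u * ⁅u, (s : G)⁆ * u⁻¹) * ⁅u, (s : G)⁆ := by rw [hcu, pow_two]
        _ = ⁅u * u, (s : G)⁆ := by simp only [commutatorElement_def]; group
        _ = 1 := h1
    haveI : IsCyclic φ.range := by
      haveI := hcy
      infer_instance
    haveI := Fintype.ofFinite φ.range
    have h := IsCyclic.card_pow_eq_one_le (α := φ.range) (n := 2) two_pos
    rw [Finset.filter_true_of_mem (fun (y : φ.range) _ => Subtype.ext (hsub y.1 y.2)), Finset.card_univ,
      ← Nat.card_eq_fintype_card] at h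
    exact h
  have hN2 : Nat.card N = 2 := by
    have h1 := φ.ker.card_mul_index
    rw [index_ker] at h1
    have h2 : Nat.card φ.ker * Nat.card φ.range ≤ 4 * 2 := Nat.mul_le_mul hkerc hrange
    have h3 : 2 ≤ Nat.card N := by
      rw [hNc]
      calc 2 = 2 ^ 1 := rfl
        _ ≤ _ := Nat.pow_le_pow_right two_pos hv
    omega
  have hN1 : ∀ n ∈ N, n * n = 1 := fun n hn => by
    have := congrArg Subtype.val (pow_card_eq_one' (x := (⟨n, hn⟩ : N)))
    rw [hN2] at this
    simpa [pow_two] using this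
  -- squares outside the kernel
  have hsq : ∀ s ∈ (S : Subgroup G), s ∉ M → s * s = u * u := by
    intro s hsS hsM
    obtain ⟨e⟩ := D.iso
    set q := e.toMonoidHom.comp (QuotientGroup.mk' M) with hq
    have hqs : Function.Surjective q := e.surjective.comp (QuotientGroup.mk'_surjective M)
    have hq1 : ∀ x, q x = 1 ↔ x ∈ M := fun x => by
      simp [hq, QuotientGroup.eq_one_iff]
    have hqu : q u * q u = 1 := by rw [← map_mul]; exact (hq1 _).2 D.sqMem
    have hqu1 : q u ≠ 1 := fun h => D.notMem ((hq1 u).1 h)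
    have hs4 : q s * q s * (q s * q s) = 1 := by
      have h := pow_card_eq_one' (x := (⟨s, hsS⟩ : (S : Subgroup G)))
      rw [hSN, hN2] at h
      have h8 : s ^ 8 = 1 := congrArg Subtype.val h
      have hmem : s * s * (s * s) ∈ M := by
        by_contra hno
        have := alt_four (q (s * s)) (by
          rw [← map_mul, ← map_mul, show s * s * (s * s) * (s * s * (s * s)) = s ^ 8 by simp only [pow_succ, pow_zero, one_mul, mul_assoc], h8, map_one])
        rw [← map_mul] at this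
        exact hno ((hq1 _).1 this)
      rw [← map_mul, ← map_mul]
      exact (hq1 _).2 hmem
    obtain ⟨c, hc⟩ := alt_conj (q u) (q s) hqu hqu1 (alt_four _ hs4) (fun h => hsM ((hq1 s).1 h))
    obtain ⟨g, rfl⟩ := hqs c
    have hm : s⁻¹ * (g * u * g⁻¹) ∈ M := (hq1 _).1 (by rw [map_mul, map_inv, map_mul, map_mul, map_inv, hc, inv_mul_cancel])
    set m := s⁻¹ * (g * u * g⁻¹) with hmdef
    have hmm : π m * π m = 1 := by
      obtain ⟨n, hn, hnm⟩ : π m ∈ N.map π := hMN ▸ mem_map_of_mem π hm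
      rw [← hnm, ← map_mul, hN1 n hn, map_one]
    have e1 : π (g * (u * u) * g⁻¹) = π (u * u) := by
      rw [map_mul, map_mul, map_inv, hcentral g (u * u) D.sqMem, mul_inv_cancel_right]
    have e2 : π (g * (u * u) * g⁻¹) = π (s * s) := by
      rw [show g * (u * u) * g⁻¹ = s * m * (s * m) by rw [hmdef]; group, map_mul, map_mul, map_mul]
      calc π s * π m * (π s * π m) = π s * (π m * π s) * π m := by group
        _ = π s * (π s * π m) * π m := by rw [hcentral s m hm]
        _ = π s * π s * (π m * π m) := by group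
        _ = _ := by rw [hmm, mul_one, map_mul]
    exact hπinj _ (mul_mem hsS hsS) _ (mul_mem huS huS) (e2.symm.trans e1)
  have hcommS : ¬ ∀ a b : (S : Subgroup G), a * b = b * a := by
    intro hab
    have hb : commutator ↥(S : Subgroup G) = ⊥ := by
      rw [_root_.commutator_def, eq_bot_iff, commutator_le]
      exact fun a _ b _ => mem_bot.2 (commutatorElement_eq_one_iff_mul_comm.2 (hab a b))
    rw [hcomm, subgroupOf_eq_bot, disjoint_iff] at hb
    have : Nat.card N = 1 := by rw [hN, inf_comm, hb, card_bot]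
    omega
  have hz : u * u ≠ 1 := by
    intro h0
    have hall : ∀ s ∈ (S : Subgroup G), s * s = 1 := fun s hs => by
      by_cases hsM : s ∈ M
      · exact hN1 s ⟨hs, hsM⟩
      · rw [hsq s hs hsM, h0]
    refine hcommS fun a b => Subtype.ext ?_
    have hi : ∀ s ∈ (S : Subgroup G), s⁻¹ = s := fun s hs => inv_eq_of_mul_eq_one_right (hall s hs)
    show (a : G) * b = b * a
    rw [← hi _ (mul_mem a.2 b.2), mul_inv_rev, hi _ a.2, hi _ b.2]
  have hord : orderOf u = 4 := by
    refine orderOf_eq_prime_pow (p := 2) (n := 1) ?_ (D.pow_four (x := u) rfl)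
    rw [pow_one, pow_two]
    exact hz
  -- the Sylow subgroup is quaternion
  have hSc : Nat.card (S : Subgroup G) = 2 ^ 3 := by rw [hSN, hN2]; norm_num
  obtain ⟨a, b, hab, hcases⟩ := Cfsg.Lib.CyclicMax.classify 3 le_rfl hSc C hC hCi (by
    push Not at hcommS
    exact hcommS)
  have hQ : Nonempty (↥(S : Subgroup G) ≃* QuaternionGroup 2) := by
    rcases hcases with h | h | ⟨h, -⟩ | ⟨h, -⟩
    · exfalso
      have hb2 : b * b = 1 := h.sq.trans (zpow_zero a)
      have hbC : b ∉ C := hab ▸ h.notMem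
      have hbM : (b : G) ∉ M := fun hm => hbC (hMC (mem_subgroupOf.2 hm))
      exact hz ((hsq b b.2 hbM).symm.trans (congrArg Subtype.val hb2))
    · exact Cfsg.Lib.CyclicMax.toQuaternion h le_rfl
    · omega
    · omega
  -- the quotient
  have hR : Nat.card (G ⧸ O) = 120 := by
    have hOc : Nat.card M = Nat.card O * 2 := by
      let g : O × N → M := fun p => ⟨p.1 * p.2, mul_mem (hOM p.1.2) p.2.2.2⟩
      have hg : Function.Bijective g := by
        refine ⟨fun p r e => ?_, fun m => ?_⟩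
        · have e' : (p.1 : G) * p.2 = r.1 * r.2 := congrArg Subtype.val e
          have h1 : (p.2 : G) * (r.2 : G)⁻¹ = (p.1 : G)⁻¹ * r.1 :=
            mul_inv_eq_iff_eq_mul.2 (by rw [mul_assoc, ← e', inv_mul_cancel_left])
          have h2 := hSO _ (mul_mem p.2.2.1 (inv_mem r.2.2.1)) (h1 ▸ mul_mem (inv_mem p.1.2) r.1.2)
          have h3 : (p.2 : G) = r.2 := mul_inv_eq_one.1 h2
          rw [h3] at e'
          exact Prod.ext (Subtype.ext (mul_right_cancel e')) (Subtype.ext h3)
        · obtain ⟨o, ho, n, hn, e⟩ := hdec m m.2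
          exact ⟨(⟨o, ho⟩, ⟨n, hn⟩), Subtype.ext e.symm⟩
      rw [← Nat.card_eq_of_bijective g hg, Nat.card_prod, hN2]
    have h1 := card_eq_card_quotient_mul_card_subgroup M
    rw [D.card_quot, hOc, card_eq_card_quotient_mul_card_subgroup O] at h1
    exact Nat.eq_of_mul_eq_mul_right (Nat.card_pos (α := O)) (by rw [h1]; ring)
  have hns : ¬ Group.IsSolvable (G ⧸ O) := by
    intro hs
    haveI := hs
    haveI : Nontrivial (G ⧸ O) := Finite.one_lt_card_iff_nontrivial.1 (by omega)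
    have h1 := Group.IsSolvable.commutator_lt_top_of_nontrivial (G ⧸ O)
    rw [_root_.commutator_def, ← map_top_of_surjective π hπ, ← map_commutator, ← _root_.commutator_def, D.perf] at h1
    exact lt_irrefl _ h1
  have hQall : ∀ P : Sylow 2 (G ⧸ O), Nonempty ((P : Subgroup (G ⧸ O)) ≃* QuaternionGroup 2) := by
    intro P
    obtain ⟨e⟩ := hQ
    have hinj : Function.Injective (π.subgroupMap (S : Subgroup G)) := fun x y h =>
      Subtype.ext (hπinj _ x.2 _ y.2 (congrArg Subtype.val h))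
    have e1 : ↥(S : Subgroup G) ≃* ↥((S.mapSurjective hπ : Sylow 2 (G ⧸ O)) : Subgroup (G ⧸ O)) :=
      MulEquiv.ofBijective _ ⟨hinj, π.subgroupMap_surjective _⟩
    exact ⟨((P.equiv (S.mapSurjective hπ)).trans e1.symm).trans e⟩
  refine ⟨?_, (Cfsg.Agent.S3378.result).1 (G ⧸ O) hR hns hQall, hord⟩
  -- the odd core is commutative
  set z := u * u with hzdef
  have hzN : ∀ m ∈ M, π m = 1 ∨ π m = π z := by
    intro m hm
    obtain ⟨n, hn, hnm⟩ : π m ∈ N.map π := hMN ▸ mem_map_of_mem π hm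
    rw [← hnm]
    have hne : (⟨z, huu⟩ : N) ≠ 1 := fun e => hz (congrArg Subtype.val e)
    obtain ⟨x, -, hxu⟩ := (Nat.card_eq_two_iff' (1 : N)).1 hN2
    have hall : ∀ y : N, y = 1 ∨ y = ⟨z, huu⟩ := fun y => by
      by_cases hy : y = 1
      · exact Or.inl hy
      · exact Or.inr ((hxu y hy).trans (hxu _ hne).symm)
    rcases hall ⟨n, hn⟩ with h | h
    · exact Or.inl (by rw [show n = 1 from congrArg Subtype.val h, map_one])
    · exact Or.inr (by rw [show n = z from congrArg Subtype.val h])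
  have hzz : z * z = 1 := hN1 z huu
  set W := centralizer ({z} : Set G) with hW
  have huW : u ∈ W := mem_centralizer_singleton_iff.2 (mul_assoc u u u).symm
  have hcover : ∀ g : G, ∃ c ∈ O, c⁻¹ * g ∈ W := by
    intro g
    set o := g * z * g⁻¹ * z with hodef
    have hzi : z⁻¹ = z := inv_eq_of_mul_eq_one_right hzz
    have ho : o ∈ O := by
      rw [← QuotientGroup.eq_one_iff]
      show π o = 1
      rw [hodef, map_mul, map_mul, map_mul, map_inv, hcentral g z D.sqMem, mul_inv_cancel_right, ← map_mul, hzz,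
        map_one]
    have hinv : z * o * z⁻¹ = o⁻¹ := by
      rw [hodef, hzi]
      calc z * (g * z * g⁻¹ * z) * z = z * g * z * g⁻¹ * (z * z) := by group
        _ = z⁻¹ * g * z⁻¹ * g⁻¹ := by rw [hzz, hzi, mul_one]
        _ = _ := by group
    obtain ⟨k, hk⟩ := hOodd
    have hok : o ^ (2 * k + 1) = 1 := by
      rw [← hk]
      exact congrArg Subtype.val (pow_card_eq_one' (x := (⟨o, ho⟩ : O)))
    refine ⟨o ^ (k + 1), pow_mem ho _, mem_centralizer_singleton_iff.2 ?_⟩
    have hsq' : o ^ (k + 1) * o ^ (k + 1) = o := by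
      rw [← pow_add, show k + 1 + (k + 1) = 2 * k + 1 + 1 by ring, pow_succ, hok, one_mul]
    have hconj : z * o ^ (k + 1) * z⁻¹ = (o ^ (k + 1))⁻¹ := by
      rw [← conj_pow, hinv, inv_pow]
    have hgz : g * z = o * z * g := by
      rw [hodef, show g * z * g⁻¹ * z * z * g = g * z * g⁻¹ * (z * z) * g by group, hzz]
      group
    set c := o ^ (k + 1) with hcdef
    have hcz : z * c⁻¹ = c * z := by
      rw [← hconj, mul_assoc z c, ← mul_assoc z z, hzz, one_mul, hzi]
    calc c⁻¹ * g * z = c⁻¹ * (o * z * g) := by rw [mul_assoc, hgz]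
      _ = c * z * g := by nth_rewrite 1 [← hsq']; group
      _ = z * (c⁻¹ * g) := by rw [← hcz, mul_assoc]
  set D' := O ⊓ W with hD'
  have hWn : ∀ w ∈ W, ∀ d ∈ D', w * d * w⁻¹ ∈ D' := fun w hw d hd =>
    ⟨hOn.conj_mem d hd.1 w, W.mul_mem (W.mul_mem hw hd.2) (W.inv_mem hw)⟩
  have huD : ∀ d ∈ D', d * u = u * d → d = 1 := fun d hd => D.comm_u_odd hOodd hd.1
  have hzd : ∀ d ∈ D', z * d = d * z := fun d hd => (mem_centralizer_singleton_iff.1 hd.2).symm
  have hDc : ∀ x ∈ D', ∀ y ∈ D', x * y = y * x := comm_of_fpf (hWn u huW) hzd huD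
  have huinv : ∀ d ∈ D', u * d * u⁻¹ = d⁻¹ := by
    intro d hd
    have h1 : u * (u * d * u⁻¹ * d) * u⁻¹ = u * d * u⁻¹ * d := by
      calc u * (u * d * u⁻¹ * d) * u⁻¹ = z * d * z⁻¹ * (u * d * u⁻¹) := by rw [hzdef]; group
        _ = d * (u * d * u⁻¹) := by rw [hzd d hd, mul_inv_cancel_right]
        _ = _ := hDc d hd _ (hWn u huW d hd)
    have h2 := huD _ (mul_mem (hWn u huW d hd) hd) (mul_inv_eq_iff_eq_mul.1 h1).symm
    exact eq_inv_of_mul_eq_one_left h2
  set A := W ⊓ centralizer (D' : Set G) with hA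
  have hWM : ∀ m ∈ W, m ∈ M → m ∈ A := by
    intro m hmW hmM
    refine ⟨hmW, mem_centralizer_iff.2 fun d hd => ?_⟩
    rcases hzN m hmM with h | h
    · exact hDc d hd m ⟨(QuotientGroup.eq_one_iff m).1 h, hmW⟩
    · have hzW : z ∈ W := mem_centralizer_singleton_iff.2 rfl
      have h1 : z⁻¹ * m ∈ D' := ⟨(hπeq z m).1 h.symm, W.mul_mem (W.inv_mem hzW) hmW⟩
      have h2 := hDc d hd _ h1
      calc d * m = d * z * (z⁻¹ * m) := by group
        _ = z * d * (z⁻¹ * m) := by rw [hzd d hd]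
        _ = z * (z⁻¹ * m * d) := by rw [mul_assoc, h2]
        _ = m * d := by group
  have hAcomm : ∀ x ∈ W, ⁅u, x⁆ ∈ A := by
    intro x hx
    refine ⟨W.mul_mem (W.mul_mem (W.mul_mem huW hx) (W.inv_mem huW)) (W.inv_mem hx), mem_centralizer_iff.2 fun d hd => ?_⟩
    have hd' : x⁻¹ * d * x ∈ D' := by simpa using hWn x⁻¹ (inv_mem hx) d hd
    have huinv' : ∀ e ∈ D', u⁻¹ * e * u = e⁻¹ := fun e he => by
      conv_lhs => rw [show e = (e⁻¹)⁻¹ from (inv_inv e).symm, ← huinv e⁻¹ (inv_mem he)]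
      group
    have h1 : ⁅u, x⁆ * d * ⁅u, x⁆⁻¹ = d := by
      calc ⁅u, x⁆ * d * ⁅u, x⁆⁻¹ = u * (x * (u⁻¹ * (x⁻¹ * d * x) * u) * x⁻¹) * u⁻¹ := by
            rw [commutatorElement_def]; group
        _ = u * (x * (x⁻¹ * d * x)⁻¹ * x⁻¹) * u⁻¹ := by rw [huinv' _ hd']
        _ = u * d⁻¹ * u⁻¹ := by group
        _ = d := by rw [huinv _ (inv_mem hd), inv_inv]
    exact (mul_inv_eq_iff_eq_mul.1 h1).symm
  set q := QuotientGroup.mk' M with hq
  have hqW : ∀ g : G, ∃ w ∈ W, q w = q g := by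
    intro g
    obtain ⟨c, hc, hw⟩ := hcover g
    exact ⟨_, hw, by rw [map_mul, map_inv, show q c = 1 from (QuotientGroup.eq_one_iff c).2 (hOM hc), inv_one, one_mul]⟩
  haveI hqAn : (A.map q).Normal := by
    refine ⟨?_⟩
    rintro _ ⟨a, ha, rfl⟩ y
    obtain ⟨g, rfl⟩ := QuotientGroup.mk'_surjective M y
    obtain ⟨w, hw, hwg⟩ := hqW g
    refine ⟨w * a * w⁻¹, ⟨W.mul_mem (W.mul_mem hw ha.1) (W.inv_mem hw), mem_centralizer_iff.2 fun d hd => ?_⟩, by
      rw [map_mul, map_mul, map_inv, hwg]⟩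
    have h1 : w⁻¹ * d * w ∈ D' := by simpa using hWn w⁻¹ (inv_mem hw) d hd
    have h2 := mem_centralizer_iff.1 ha.2 _ h1
    calc d * (w * a * w⁻¹) = w * (w⁻¹ * d * w * a) * w⁻¹ := by group
      _ = w * (a * (w⁻¹ * d * w)) * w⁻¹ := by rw [h2]
      _ = w * a * w⁻¹ * d := by group
  haveI := D.simple
  have hAtop : A.map q = ⊤ := by
    refine hqAn.eq_bot_or_eq_top.resolve_left fun hb => ?_
    have hcen : q u ∈ center (G ⧸ M) := mem_center_iff.2 fun y => by
      obtain ⟨g, rfl⟩ := QuotientGroup.mk'_surjective M y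
      obtain ⟨w, hw, hwg⟩ := hqW g
      have h1 : q ⁅u, w⁆ ∈ A.map q := mem_map_of_mem q (hAcomm w hw)
      rw [hb, mem_bot, map_commutatorElement, commutatorElement_eq_one_iff_mul_comm, hwg] at h1
      exact h1.symm
    rcases (inferInstance : (center (G ⧸ M)).Normal).eq_bot_or_eq_top with h | h
    · rw [h, mem_bot] at hcen
      exact D.notMem ((QuotientGroup.eq_one_iff u).1 hcen)
    · have hc1 : commutator (G ⧸ M) = ⊥ := by
        rw [_root_.commutator_def, eq_bot_iff, commutator_le]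
        exact fun a _ b _ => mem_bot.2 (commutatorElement_eq_one_iff_mul_comm.2
          (mem_center_iff.1 (h ▸ mem_top b) a))
      rw [_root_.commutator_def, ← map_top_of_surjective q (QuotientGroup.mk'_surjective M), ← map_commutator,
        ← _root_.commutator_def, D.perf, map_top_of_surjective q (QuotientGroup.mk'_surjective M)] at hc1
      exact top_ne_bot hc1
  have hD1 : ∀ d ∈ D', d = 1 := by
    obtain ⟨a, ha, hau⟩ : q u ∈ A.map q := hAtop ▸ mem_top _
    have hm : a⁻¹ * u ∈ M := QuotientGroup.eq.1 hau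
    have hAu : u ∈ A := by
      have := mul_mem ha (hWM _ (mul_mem (inv_mem ha.1) huW) hm)
      rwa [mul_inv_cancel_left] at this
    exact fun d hd => huD d hd (mem_centralizer_iff.1 hAu.2 d hd)
  refine ⟨⟨fun x y => Subtype.ext ?_⟩⟩
  exact comm_of_fpf (H := O) (t := z) (fun a ha => hOn.conj_mem a ha z) (fun a _ => by rw [hzz, one_mul, mul_one])
    (fun a ha hc => hD1 a ⟨ha, mem_centralizer_singleton_iff.2 hc⟩) _ x.2 _ y.2

end Cfsg.Lib.FourDrop
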