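import Mathlib
import Cfsg.Agent.Chars.FourDrop.Basic

/-!
# Squares of characters, and the degree three case of the determinant
-/

set_option autoImplicit false
set_option linter.unusedSectionVars false

namespace Cfsg.Lib.FourDrop

open Cfsg.Lib.Chars
open Cfsg.Lib.PermGroups.PrimeExceptional
open scoped ComplexConjugate Matrix

universe w

variable {G : Type w} [Group G] [Fintype G]

local notation "⟪" a ", " b "⟫" => Cfsg.classInner a b

/-- the alternating square -/
noncomputable def alt (f : G → ℂ) : G → ℂ := fun g => (f g * f g - f (g * g)) / 2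

theorem char_alt {f : G → ℂ} (h : Cfsg.IsCharacter G f) : Cfsg.IsCharacter G (alt f) :=
  isCharacter_altSquare h

theorem character_congrRep {d : ℕ} (A : G →* Matrix (Fin d) (Fin d) ℂ) (g : G) :
    (congrRep A).character g = (A g).trace * (A g).trace := by
  classical
  rw [Representation.character, trace_eq_sum_single, Matrix.trace, Finset.sum_mul_sum]
  refine Finset.sum_congr rfl fun i _ => Finset.sum_congr rfl fun j _ => ?_
  show (A g * (Matrix.single i j (1 : ℂ) : Matrix (Fin d) (Fin d) ℂ) * (A g)ᵀ : Matrix (Fin d) (Fin d) ℂ) i j = _
  simp [Matrix.mul_apply, Matrix.single_apply, ite_and]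

/-- The complement of the alternating square in the square is a character. -/
theorem char_symm {f : G → ℂ} (h : Cfsg.IsCharacter G f) : Cfsg.IsCharacter G (f * f - alt f) := by
  classical
  obtain ⟨n, ρ, rfl⟩ := h
  set A := matRep ρ with hA
  let S : Subrepresentation (congrRep A) :=
    { toSubmodule := skewMat n
      apply_mem_toSubmodule := fun g _ hv => congrRep_mem A g hv }
  obtain ⟨T, hT⟩ := exists_isCompl_subrep (congrRep A) S
  have hsum := character_compl (congrRep A) S T hT
  have hS : S.toRepresentation.character = (skewRep A).character := by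
    funext g
    rfl
  have : ρ.character * ρ.character - alt ρ.character = T.toRepresentation.character := by
    funext g
    have h1 := congrFun hsum g
    rw [character_congrRep, Pi.add_apply, hS, character_skewRep] at h1
    simp only [alt, Pi.sub_apply, Pi.mul_apply, character_matRep, ← hA]
    linear_combination h1
  rw [this]
  exact isCharacter_character _

theorem trace_adjugate_three (A : Matrix (Fin 3) (Fin 3) ℂ) :
    2 * A.adjugate.trace = A.trace * A.trace - (A * A).trace := by
  rw [Matrix.adjugate_fin_three, Matrix.trace_fin_three, Matrix.trace_fin_three, Matrix.trace_fin_three]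
  simp [Matrix.mul_apply, Fin.sum_univ_three]
  ring

variable {u : G}

/-- In degree three the alternating square is the conjugate. -/
theorem alt_three (hd : Drop u) {χ : G → ℂ} (hχ : Cfsg.IsCharacter G χ) (h1 : χ 1 = 3) : alt χ = cj χ := by
  classical
  obtain ⟨n, ρ, rfl⟩ := hχ
  have hn : n = 3 := by
    have h := ρ.char_one
    rw [h1, Module.finrank_fin_fun] at h
    exact_mod_cast h.symm
  subst hn
  set A := matRep ρ with hA
  have hdet : ∀ g, (A g).det = 1 := by
    intro g
    let l : G →* ℂˣ := (Units.map Matrix.detMonoidHom).comp A.toHomUnits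
    have hl := linear_eq_triv hd (isIrrCharacter_linear l) (by simp)
    have := congrFun hl g
    simpa [l, triv, MonoidHom.coe_toHomUnits] using this
  funext g
  have hinv : (A g).adjugate = A g⁻¹ := by
    have e1 : A g * (A g).adjugate = 1 := by rw [Matrix.mul_adjugate, hdet g, one_smul]
    have e2 : A g⁻¹ * A g = 1 := by rw [← map_mul, inv_mul_cancel, map_one]
    calc (A g).adjugate = A g⁻¹ * A g * (A g).adjugate := by rw [e2, one_mul]
      _ = A g⁻¹ := by rw [mul_assoc, e1, mul_one]
  have ht := trace_adjugate_three (A g)
  rw [hinv, ← map_mul] at ht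
  show (ρ.character g * ρ.character g - ρ.character (g * g)) / 2 = conj (ρ.character g)
  rw [← character_inv ρ g, character_matRep, character_matRep, character_matRep, ← hA, ← ht]
  ring

/-- The value at a square in degree three. -/
theorem sq_value (hd : Drop u) {χ : G → ℂ} (hχ : Cfsg.IsCharacter G χ) (h1 : χ 1 = 3) (g : G) :
    χ (g * g) = χ g * χ g - 2 * conj (χ g) := by
  have h := congrFun (alt_three hd hχ h1) g
  simp only [alt, cj_apply] at h
  linear_combination (-2 : ℂ) * h

end Cfsg.Lib.FourDrop
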