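import Mathlib
import Cfsg.Agent.Chars.FourDrop.Square

/-!
# The characters of degree three are real, and any two share their five-dimensional square
-/

set_option autoImplicit false
set_option linter.unusedSectionVars false

namespace Cfsg.Lib.FourDrop

open Cfsg.Lib.Chars
open scoped ComplexConjugate

universe w

variable {G : Type w} [Group G] [Fintype G] {u : G}

local notation "⟪" a ", " b "⟫" => Cfsg.classInner a b

/-- a degree three character with value `-1` at `u` -/
structure Three (u : G) (χ : G → ℂ) : Prop where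
  irr : Cfsg.IsIrrCharacter G χ
  one : χ 1 = 3
  val : χ u = -1

theorem Three.char {χ : G → ℂ} (h : Three u χ) : Cfsg.IsCharacter G χ := isCharacter_of_irr h.irr

theorem Three.cjChar {χ : G → ℂ} (h : Three u χ) : Cfsg.IsCharacter G (cj χ) := char_cj h.char

theorem Three.irr_cj {χ : G → ℂ} (h : Three u χ) : Cfsg.IsIrrCharacter G (cj χ) := IsIrrCharacter.conjugate h.irr

theorem Three.ne_triv {χ : G → ℂ} (h : Three u χ) : χ ≠ triv := fun e => by
  have := h.one; rw [e] at this; simp [triv] at this

theorem Three.cj_ne_triv {χ : G → ℂ} (h : Three u χ) : cj χ ≠ triv := fun e => by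
  have := congrFun e 1; simp [triv, cj_apply, h.one, map_ofNat] at this

/-- the symmetric square -/
noncomputable def six (χ : G → ℂ) : G → ℂ := χ * χ - cj χ

/-- the adjoint character -/
noncomputable def eight (χ : G → ℂ) : G → ℂ := χ * cj χ - triv

theorem Three.char_six (hd : Drop u) {χ : G → ℂ} (h : Three u χ) : Cfsg.IsCharacter G (six χ) := by
  have := char_symm h.char
  rwa [alt_three hd h.char h.one] at this

theorem Three.six_one {χ : G → ℂ} (h : Three u χ) : six χ 1 = 6 := by
  simp [six, cj_apply, h.one, map_ofNat]; norm_num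

theorem Three.six_val {χ : G → ℂ} (h : Three u χ) : six χ u = 2 := by
  simp [six, cj_apply, h.val]; norm_num

theorem ip_triv_right_mul (a b : G → ℂ) : ⟪a * b, triv⟫ = ⟪a, cj b⟫ := by
  rw [ip_move, mul_triv]

/-- Irreducible characters of different degree are orthogonal. -/
theorem ip_deg_ne {a b : G → ℂ} (ha : Cfsg.IsIrrCharacter G a) (hb : Cfsg.IsIrrCharacter G b) (h : a 1 ≠ b 1) :
    ⟪a, b⟫ = 0 :=
  ip_eq_zero ha hb fun e => h (by rw [e])

/-- All these characters are real. -/
theorem Three.real (hd : Drop u) {χ : G → ℂ} (h : Three u χ) : cj χ = χ := by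
  classical
  by_contra hne
  have hS6 := h.six_one
  have hS2 := h.six_val
  have hSc := h.char_six hd
  set S := six χ with hS
  set E := eight χ with hE
  have hS1 : ⟪S, triv⟫ = 0 := by
    rw [hS, six, classInner_sub_left, ip_triv_right_mul, ip_eq_zero h.irr h.irr_cj (Ne.symm hne),
      ip_eq_zero h.irr_cj irr_triv h.cj_ne_triv, sub_zero]
  have hSirr : Cfsg.IsIrrCharacter G S :=
    irr_of_four hd hSc (by rw [hS6, hS2]; norm_num) (by rw [hS2]; norm_num) hS1
  have hsq : χ * χ = S + cj χ := by rw [hS, six, sub_add_cancel]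
  have hnorm : ⟪χ * cj χ, χ * cj χ⟫ = 2 := by
    have e : ⟪χ * cj χ, χ * cj χ⟫ = ⟪χ * χ, χ * χ⟫ := by
      rw [classInner_def, classInner_def]
      congr 1
      refine Finset.sum_congr rfl fun g _ => ?_
      simp only [Pi.mul_apply, cj_apply, map_mul, Complex.conj_conj]; ring
    rw [e, hsq, classInner_add_left, classInner_add_right, classInner_add_right, ip_self hSirr, ip_self h.irr_cj,
      ip_deg_ne hSirr h.irr_cj (by rw [hS6]; simp [cj_apply, h.one, map_ofNat]),
      ip_deg_ne h.irr_cj hSirr (by rw [hS6]; simp [cj_apply, h.one, map_ofNat])]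
    norm_num
  have hc1 : ⟪χ * cj χ, triv⟫ = 1 := by rw [ip_triv_right_mul, cj_cj, ip_self h.irr]
  have hEc : Cfsg.IsCharacter G E :=
    char_sub_one (IsCharacter.mul h.char h.cjChar) irr_triv (n := 1) (by rw [hc1]; norm_num) le_rfl
  have hEirr : Cfsg.IsIrrCharacter G E := by
    refine irr_of_norm hEc ?_
    rw [hE, eight, classInner_sub_left, classInner_sub_right, classInner_sub_right, hnorm, hc1,
      ip_self irr_triv, ← classInner_conj_symm (χ * cj χ) triv, hc1, map_one]
    norm_num
  have hE1 : E 1 = 8 := by simp [hE, eight, cj_apply, h.one, triv, map_ofNat]; norm_num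
  -- `E` is a constituent of `χ * S`
  obtain ⟨n₀, hn₀⟩ : ∃ n : ℕ, ⟪χ * S, E⟫ = n ∧ 1 ≤ n := by
    have e : cj χ * E = cj S * χ + S := by
      funext g
      simp [hE, hS, eight, six, cj_apply, triv]
      ring
    obtain ⟨n, hn⟩ := inner_nat hSc (IsCharacter.mul (char_cj hSc) h.char)
    refine ⟨n + 1, ?_, by omega⟩
    rw [mul_comm χ S, ip_move, e, classInner_add_right, hn, ip_self hSirr, Nat.cast_add, Nat.cast_one]
  set F := χ * S - E with hF
  have hFc : Cfsg.IsCharacter G F := char_sub_one (IsCharacter.mul h.char hSc) hEirr hn₀.1 hn₀.2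
  have hFu : F u = -2 := by
    simp [hF, hE, hS, six, eight, cj_apply, triv, h.val]; norm_num
  have hmult : ∀ W : Cfsg.IrrCharacter G, (W : G → ℂ) 1 = 3 → ∀ n : ℕ, ⟪F, (W : G → ℂ)⟫ = n →
      ⟪cj χ * (W : G → ℂ), S⟫ = n := by
    intro W hW n hn
    apply ip_symm_nat
    rw [ip_move', cj_cj, mul_comm S χ, ← hn, hF, classInner_sub_left,
      ip_deg_ne hEirr W.2 (by rw [hE1, hW]; norm_num), sub_zero]
  obtain ⟨X, n, hX1, hXu, hXn, hn1, hcase⟩ := neg_constituents hd hFc hFu
  have hTX : Cfsg.IsCharacter G (cj χ * (X : G → ℂ)) := IsCharacter.mul h.cjChar (isCharacter_of_irr X.2)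
  rcases hcase with h2 | ⟨Y, k, hYX, hY1, hYu, hYk, hk1⟩
  · obtain ⟨d, hd'⟩ := IsCharacter.apply_one (char_sub hTX hSirr (hmult X hX1 n hXn) h2)
    have h' := congrArg Complex.re hd'
    simp [hS6, cj_apply, h.one, hX1, map_ofNat] at h'
    have : (0 : ℝ) ≤ d := Nat.cast_nonneg d
    norm_num at h'
    linarith
  · have hTY : Cfsg.IsCharacter G (cj χ * (Y : G → ℂ)) := IsCharacter.mul h.cjChar (isCharacter_of_irr Y.2)
    have hA := char_sub_one hTX hSirr (hmult X hX1 n hXn) hn1
    have hB := char_sub_one hTY hSirr (hmult Y hY1 k hYk) hk1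
    obtain ⟨a, ha⟩ := inner_nat hA hB
    obtain ⟨b, hb⟩ := inner_nat hA hSc
    obtain ⟨c, hc⟩ := inner_nat hSc hB
    have hge : ⟪cj χ * (X : G → ℂ), cj χ * (Y : G → ℂ)⟫ = (1 + a + b + c : ℕ) := by
      rw [← sub_add_cancel (cj χ * (X : G → ℂ)) S, ← sub_add_cancel (cj χ * (Y : G → ℂ)) S,
        classInner_add_left, classInner_add_right, classInner_add_right, ha, hb, hc, ip_self hSirr]
      push_cast; ring
    have hZc : Cfsg.IsCharacter G (cj (X : G → ℂ) * (Y : G → ℂ)) :=
      IsCharacter.mul (char_cj (isCharacter_of_irr X.2)) (isCharacter_of_irr Y.2)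
    have hXY : ⟪cj (X : G → ℂ) * (Y : G → ℂ), triv⟫ = 0 := by
      rw [mul_comm, ip_triv_right_mul, cj_cj, ip_eq_zero Y.2 X.2 fun e => hYX (Subtype.ext e)]
    obtain ⟨m, hm⟩ := inner_nat hZc hEc
    have hm1 : 1 ≤ m := by
      have e : ⟪cj χ * (X : G → ℂ), cj χ * (Y : G → ℂ)⟫ = ⟪E + triv, cj (X : G → ℂ) * (Y : G → ℂ)⟫ := by
        rw [hE, eight, sub_add_cancel, classInner_def, classInner_def]
        congr 1
        refine Finset.sum_congr rfl fun g _ => ?_
        simp only [Pi.mul_apply, cj_apply, map_mul, Complex.conj_conj]; ring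
      rw [hge, classInner_add_left, ← classInner_conj_symm (cj (X : G → ℂ) * (Y : G → ℂ)) triv, hXY, map_zero,
        add_zero, ← classInner_conj_symm (cj (X : G → ℂ) * (Y : G → ℂ)) E, hm, Complex.conj_natCast] at e
      have : 1 + a + b + c = m := Nat.cast_injective e
      omega
    have hrem := char_sub_one hZc hEirr hm hm1
    have htr := deg_one_eq_triv hd hrem (by simp [cj_apply, hX1, hY1, hE1, map_ofNat]; norm_num)
    rw [← sub_add_cancel (cj (X : G → ℂ) * (Y : G → ℂ)) E, htr, classInner_add_left, ip_self irr_triv,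
      ip_deg_ne hEirr irr_triv (by rw [hE1]; simp [triv])] at hXY
    norm_num at hXY

/-- the five-dimensional constituent of the square -/
noncomputable def five (χ : G → ℂ) : G → ℂ := χ * χ - χ - triv

theorem Three.five_one {χ : G → ℂ} (h : Three u χ) : five χ 1 = 5 := by
  simp [five, h.one, triv]; norm_num

theorem Three.five_val {χ : G → ℂ} (h : Three u χ) : five χ u = 1 := by
  simp [five, h.val, triv]

theorem Three.five_irr (hd : Drop u) {χ : G → ℂ} (h : Three u χ) : Cfsg.IsIrrCharacter G (five χ) := by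
  have hreal := h.real hd
  have hsix : six χ = χ * χ - χ := by rw [six, hreal]
  have h1 : ⟪six χ, triv⟫ = 1 := by
    rw [hsix, classInner_sub_left, ip_triv_right_mul, hreal, ip_self h.irr, ip_eq_zero h.irr irr_triv h.ne_triv,
      sub_zero]
  have hc : Cfsg.IsCharacter G (five χ) := by
    have := char_sub_one (h.char_six hd) irr_triv (n := 1) (by rw [h1]; norm_num) le_rfl
    rwa [hsix] at this
  refine irr_of_four hd hc (by rw [h.five_one, h.five_val]; norm_num) (by rw [h.five_val]; norm_num) ?_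
  rw [show five χ = six χ - triv by rw [hsix]; rfl, classInner_sub_left, h1, ip_self irr_triv, sub_self]

theorem sq_eq (χ : G → ℂ) : χ * χ = triv + χ + five χ := by
  funext g; simp [five, triv]; ring

theorem cj_five {χ : G → ℂ} (h : cj χ = χ) : cj (five χ) = five χ := by
  funext g
  have e := congrFun h g
  rw [cj_apply] at e
  simp [five, cj_apply, triv, e]

/-- Two different characters share their five-dimensional square, so are locally equal or complementary. -/
theorem Three.pair (hd : Drop u) {χ X : G → ℂ} (h : Three u χ) (hX : Three u X) (hne : χ ≠ X) :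
    five χ = five X ∧ ∀ g, X g = χ g ∨ X g = 1 - χ g := by
  have h5 : five χ = five X := by
    by_contra h5
    have hp : Cfsg.IsCharacter G (χ * X) := IsCharacter.mul h.char hX.char
    have hn : ⟪χ * X, χ * X⟫ = 1 := by
      have e : ⟪χ * X, χ * X⟫ = ⟪χ * χ, X * X⟫ := by
        rw [classInner_def, classInner_def]
        congr 1
        refine Finset.sum_congr rfl fun g _ => ?_
        have e1 := congrFun (h.real hd) g
        have e2 := congrFun (hX.real hd) g
        simp only [cj_apply] at e1 e2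
        simp only [Pi.mul_apply, map_mul, e1, e2]; ring
      rw [e, sq_eq χ, sq_eq X]
      simp only [classInner_add_left, classInner_add_right]
      rw [ip_self irr_triv, ip_eq_zero irr_triv hX.irr (Ne.symm hX.ne_triv), ip_eq_zero h.irr irr_triv h.ne_triv,
        ip_eq_zero h.irr hX.irr hne, ip_eq_zero (h.five_irr hd) (hX.five_irr hd) h5,
        ip_deg_ne irr_triv (hX.five_irr hd) (by rw [hX.five_one]; simp [triv]),
        ip_deg_ne (h.five_irr hd) irr_triv (by rw [h.five_one]; simp [triv]),
        ip_deg_ne h.irr (hX.five_irr hd) (by rw [hX.five_one, h.one]; norm_num),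
        ip_deg_ne (h.five_irr hd) hX.irr (by rw [h.five_one, hX.one]; norm_num)]
      simp
    have hirr := irr_of_norm hp hn
    obtain ⟨n, -, hn1, hnu⟩ := value hd ⟨_, hirr⟩
      (fun e => by have := congrFun e 1; simp [h.one, hX.one, triv] at this; norm_num at this)
      (by simp [h.val, hX.val])
    change (χ * X) 1 = n at hn1
    change (χ * X) u = n - 4 at hnu
    rw [← hn1] at hnu
    simp [h.one, hX.one, h.val, hX.val] at hnu
    norm_num at hnu
  refine ⟨h5, fun g => ?_⟩
  have e := congrFun h5 g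
  simp [five, triv] at e
  have : (X g - χ g) * (X g - (1 - χ g)) = 0 := by linear_combination -e
  rcases mul_eq_zero.1 this with h' | h'
  · exact Or.inl (sub_eq_zero.1 h')
  · exact Or.inr (sub_eq_zero.1 h')

theorem Three.five_sq_val (hd : Drop u) {χ : G → ℂ} (h : Three u χ) : five χ (u * u) = 5 := by
  simp [five, sq_value hd h.char h.one, h.val, triv]; norm_num

/-- There is a second character, inside the square of the common five-dimensional one. -/
theorem Three.exists_second (hd : Drop u) {χ : G → ℂ} (h : Three u χ) :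
    ∃ (X : G → ℂ) (n : ℕ), Three u X ∧ X ≠ χ ∧ ⟪X * five X, five X⟫ = n ∧ 1 ≤ n := by
  classical
  set F := five χ with hF
  have hFi := h.five_irr hd
  have hFc := isCharacter_of_irr hFi
  have hAc := char_alt hFc
  have hAu : alt F u = -2 := by
    simp only [alt, hF, h.five_val, h.five_sq_val hd]; norm_num
  obtain ⟨X, n, hX1, hXu, hXn, hn1, hcase⟩ := neg_constituents hd hAc hAu
  have key : ∀ (Y : Cfsg.IrrCharacter G) (k : ℕ), ⟪alt F, (Y : G → ℂ)⟫ = k → ∃ j : ℕ, k ≤ j ∧
      ⟪(Y : G → ℂ) * F, F⟫ = j := by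
    intro Y k hk
    obtain ⟨i, hi⟩ := IsCharacter.exists_mult (char_symm hFc) Y.2
    refine ⟨i + k, by omega, ?_⟩
    rw [ip_move, cj_five (h.real hd)]
    apply ip_symm_nat
    rw [Nat.cast_add, ← hi, ← hk, ← classInner_add_left, sub_add_cancel]
  by_cases hXne : (X : G → ℂ) ≠ χ
  · obtain ⟨j, hj, hjv⟩ := key X n hXn
    have hT : Three u (X : G → ℂ) := ⟨X.2, hX1, hXu⟩
    exact ⟨X, j, hT, hXne, by rw [← (h.pair hd hT (Ne.symm hXne)).1]; exact hjv, hn1.trans hj⟩
  push Not at hXne
  rcases hcase with h2 | ⟨Y, k, hYX, hY1, hYu, hYk, hk1⟩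
  · exfalso
    obtain ⟨j, hj, hjv⟩ := key X n hXn
    rw [hXne] at hjv
    have hχF : Cfsg.IsCharacter G (χ * F) := IsCharacter.mul h.char hFc
    have hone : ⟪χ * F, χ⟫ = 1 := by
      rw [mul_comm, ip_move, h.real hd, sq_eq χ, classInner_add_right, classInner_add_right, ← hF, ip_self hFi,
        ip_deg_ne hFi irr_triv (by rw [h.five_one]; simp [triv]),
        ip_deg_ne hFi h.irr (by rw [h.five_one, h.one]; norm_num)]
      simp
    have hR := char_sub_one hχF h.irr (n := 1) (by rw [hone]; norm_num) le_rfl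
    have hRF : ⟪χ * F - χ, F⟫ = j := by
      rw [classInner_sub_left, hjv, ip_deg_ne h.irr hFi (by rw [h.five_one, h.one]; norm_num), sub_zero]
    have hR2 := char_sub hR hFi hRF (h2.trans hj)
    have h3 := two_lt_of_neg hd hR2 (by simp [hF, h.five_val, h.val])
    simp [hF, h.five_one, h.one] at h3
    norm_num at h3
  · have hYne : (Y : G → ℂ) ≠ χ := fun e => hYX (Subtype.ext (e.trans hXne.symm))
    obtain ⟨j, hj, hjv⟩ := key Y k hYk
    have hT : Three u (Y : G → ℂ) := ⟨Y.2, hY1, hYu⟩
    exact ⟨Y, j, hT, hYne, by rw [← (h.pair hd hT (Ne.symm hYne)).1]; exact hjv, hk1.trans hj⟩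

end Cfsg.Lib.FourDrop
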