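import Mathlib
import Cfsg.Agent.Chars.FourDrop.Three
import Cfsg.Agent.Chars.IrrTools

/-!
# The image in degree three has order sixty
-/

set_option autoImplicit false
set_option linter.unusedSectionVars false

namespace Cfsg.Lib.FourDrop

open Cfsg.Lib.Chars
open scoped ComplexConjugate

universe w

variable {G : Type w} [Group G] [Fintype G] {u : G}

local notation "⟪" a ", " b "⟫" => Cfsg.classInner a b

theorem Three.re_eq (hd : Drop u) {χ : G → ℂ} (h : Three u χ) (g : G) : χ g = ((χ g).re : ℂ) := by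
  have e := congrFun (h.real hd) g
  exact (Complex.conj_eq_iff_re.1 e).symm

/-- Sums over the group are inner products. -/
theorem sum_mul_real {f h : G → ℂ} (hh : cj h = h) :
    ∑ g, f g * h g = (Fintype.card G : ℂ) * ⟪f, h⟫ := by
  rw [classInner_def, Nat.card_eq_fintype_card, ← mul_assoc,
    mul_inv_cancel₀ (by exact_mod_cast Fintype.card_ne_zero), one_mul]
  refine Finset.sum_congr rfl fun g _ => ?_
  rw [← cj_apply, hh]

/-- Where two of the characters differ the value is golden. -/
theorem Three.golden (hd : Drop u) {X Y : G → ℂ} (hX : Three u X) (hY : Three u Y) (hne : X ≠ Y) {g : G}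
    (hg : Y g ≠ X g) : Y g = 1 - X g ∧ X g * X g = X g + 1 := by
  have hp := (hX.pair hd hY hne).2
  have hYg := (hp g).resolve_left hg
  refine ⟨hYg, ?_⟩
  have h1 := sq_value hd hX.char hX.one g
  have h2 := sq_value hd hY.char hY.one g
  rw [← cj_apply, hX.real hd] at h1
  rw [← cj_apply, hY.real hd, hYg] at h2
  rcases hp (g * g) with e | e <;> rw [h1, h2] at e
  · exact absurd (by rw [hYg]; linear_combination -e) hg
  · linear_combination (1 / 2 : ℂ) * e

/-- All these characters have one kernel. -/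
theorem Three.ker_iff (hd : Drop u) {X Y : G → ℂ} (hX : Three u X) (hY : Three u Y) {g : G} (h : X g = 3) :
    Y g = 3 := by
  by_cases hne : X = Y
  · rw [← hne]; exact h
  by_contra hc
  have hg : Y g ≠ X g := fun e => hc (e.trans h)
  obtain ⟨-, hgold⟩ := hX.golden hd hY hne hg
  rw [h] at hgold
  norm_num at hgold

/-- The kernel has index sixty. -/
theorem Three.card_eq (hd : Drop u) {X Y : G → ℂ} (hX : Three u X) (hY : Three u Y) (hne : X ≠ Y)
    {b : ℕ} (hb : ⟪X * five X, five X⟫ = b) (hb1 : 1 ≤ b) :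
    Nat.card G = 60 * Nat.card {g : G // X g = 3} := by
  classical
  set N : ℂ := (Fintype.card G : ℂ) with hN
  set x : G → ℝ := fun g => (X g).re with hx
  have hXx : ∀ g, X g = (x g : ℂ) := hX.re_eq hd
  set E : Finset G := Finset.univ.filter (fun g => Y g ≠ X g) with hE
  set D : Finset G := Finset.univ.filter (fun g => ¬ Y g ≠ X g) with hD
  have hXr := hX.real hd
  have hYr := hY.real hd
  have hF := hX.five_irr hd
  have hFr : cj (five X) = five X := cj_five hXr
  have hFt : ⟪five X, triv⟫ = 0 := ip_deg_ne hF irr_triv (by rw [hX.five_one]; simp [triv])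
  have hFX : ⟪five X, X⟫ = 0 := ip_deg_ne hF hX.irr (by rw [hX.five_one, hX.one]; norm_num)
  have hXF : ⟪X, five X⟫ = 0 := ip_deg_ne hX.irr hF (by rw [hX.five_one, hX.one]; norm_num)
  have hXt : ⟪X, triv⟫ = 0 := ip_eq_zero hX.irr irr_triv hX.ne_triv
  have htX : ⟪triv, X⟫ = 0 := ip_eq_zero irr_triv hX.irr (Ne.symm hX.ne_triv)
  have htF : ⟪triv, five X⟫ = 0 := ip_deg_ne irr_triv hF (by rw [hX.five_one]; simp [triv])
  -- the global sums
  have s1 : ∑ g, (Y g - X g) = 0 := by
    have h1 := sum_mul_real (f := Y - X) (h := (triv : G → ℂ)) (funext fun g => by simp [cj_apply, triv])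
    rw [classInner_sub_left, hXt, ip_eq_zero hY.irr irr_triv hY.ne_triv, sub_zero, mul_zero] at h1
    simpa [triv] using h1
  have s2 : ∑ g, (Y g - X g) * X g = -N := by
    have h1 := sum_mul_real (f := Y - X) (h := X) hXr
    rw [classInner_sub_left, ip_self hX.irr, ip_eq_zero hY.irr hX.irr (Ne.symm hne)] at h1
    rw [hN]
    linear_combination h1
  set P : G → ℂ := X * X + X with hP
  have hPr : cj P = P := by
    funext g
    have e := congrFun hXr g
    rw [cj_apply] at e
    simp [hP, cj_apply, e]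
  have hPe : P = triv + (X + X) + five X := by rw [hP, sq_eq X]; ring
  have hPP : ⟪P, P⟫ = 6 := by
    rw [hPe]
    simp only [classInner_add_left, classInner_add_right, ip_self irr_triv, ip_self hX.irr, ip_self hF, hFt, hFX,
      hXF, hXt, htX, htF]
    norm_num
  have hPPX : ⟪P * P, X⟫ = 12 + (b : ℂ) := by
    have hFF : ⟪five X * five X, X⟫ = b := by
      rw [ip_move, hFr]
      apply ip_symm_nat
      rw [mul_comm, hb]
    have hFXX : ⟪X * five X, X⟫ = 1 := by
      rw [mul_comm, ip_move, hXr, sq_eq X]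
      simp only [classInner_add_right, hFt, hFX, ip_self hF]
      norm_num
    have hXXX : ⟪X * X, X⟫ = 1 := by
      rw [sq_eq X]
      simp only [classInner_add_left, htX, hFX, ip_self hX.irr]
      norm_num
    have e : P * P = triv + (X * X + X * X + X * X + X * X) + five X * five X + (X + X + X + X) +
        (five X + five X) + (X * five X + X * five X + X * five X + X * five X) := by
      rw [hPe]
      funext g
      simp [triv]
      ring
    rw [e]
    simp only [classInner_add_left, htX, hFX, ip_self hX.irr, hFF, hFXX, hXXX]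
    ring
  have s3 : ∑ g, P g * P g = N * 6 := by rw [sum_mul_real hPr, hPP]
  have s4 : ∑ g, P g * P g * X g = N * (12 + (b : ℂ)) := by
    have h1 := sum_mul_real (f := P * P) (h := X) hXr
    rw [hPPX] at h1
    simpa [Pi.mul_apply] using h1
  -- the local values
  have hgold : ∀ g ∈ E, Y g = 1 - X g ∧ x g * x g = x g + 1 := by
    intro g hg
    obtain ⟨h1, h2⟩ := hX.golden hd hY hne (Finset.mem_filter.1 hg).2
    refine ⟨h1, ?_⟩
    rw [hXx g] at h2
    exact_mod_cast h2
  have hdiff : ∀ g ∈ D, Y g - X g = 0 := fun g hg => sub_eq_zero.2 (not_not.1 (Finset.mem_filter.1 hg).2)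
  have hsplit : ∀ f : G → ℂ, ∑ g, f g = ∑ g ∈ E, f g + ∑ g ∈ D, f g :=
    fun f => (Finset.sum_filter_add_sum_filter_not _ _ _).symm
  -- restricted to the set where they differ
  have eC : ((2 * ∑ g ∈ E, x g : ℝ) : ℂ) = ((E.card : ℝ) : ℂ) := by
    have h1 := s1
    rw [hsplit, Finset.sum_eq_zero hdiff, add_zero,
      Finset.sum_congr rfl (fun g hg => show Y g - X g = ((1 - 2 * x g : ℝ) : ℂ) by
        rw [(hgold g hg).1, hXx g]; push_cast; ring)] at h1
    rw [← Complex.ofReal_sum] at h1
    rw [Complex.ofReal_inj]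
    have h2 := Complex.ofReal_eq_zero.1 h1
    rw [Finset.sum_sub_distrib, ← Finset.mul_sum, Finset.sum_const, nsmul_one] at h2
    linarith
  have eD : ∑ g ∈ E, x g + 2 * (E.card : ℝ) = (Fintype.card G : ℝ) := by
    have h1 := s2
    rw [hsplit, Finset.sum_eq_zero (s := D) (fun g hg => by rw [hdiff g hg, zero_mul]), add_zero,
      Finset.sum_congr rfl (fun g hg => show (Y g - X g) * X g = ((-x g - 2 : ℝ) : ℂ) by
        have h3 : (x g : ℂ) * x g = x g + 1 := by exact_mod_cast (hgold g hg).2
        rw [(hgold g hg).1, hXx g]; push_cast; linear_combination (-2 : ℂ) * h3)] at h1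
    rw [← Complex.ofReal_sum, hN] at h1
    have h2 : ∑ g ∈ E, (-x g - 2) = -(Fintype.card G : ℝ) := by exact_mod_cast h1
    rw [Finset.sum_sub_distrib, Finset.sum_neg_distrib, Finset.sum_const, nsmul_eq_mul] at h2
    linarith
  have hsum := Complex.ofReal_inj.1 eC
  have hPx : ∀ g, P g = ((x g * (x g + 1) : ℝ) : ℂ) := fun g => by
    simp only [hP, Pi.add_apply, Pi.mul_apply]; rw [hXx g]; push_cast; ring
  -- the two polynomial sums
  have t3 : ∑ g ∈ D, (x g * (x g + 1)) ^ 2 = 12 / 5 * (Fintype.card G : ℝ) := by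
    have h1 := s3
    rw [Finset.sum_congr rfl (fun g _ => show P g * P g = (((x g * (x g + 1)) ^ 2 : ℝ) : ℂ) by
      rw [hPx g]; push_cast; ring), ← Complex.ofReal_sum, hN] at h1
    have h2 : ∑ g, (x g * (x g + 1)) ^ 2 = (Fintype.card G : ℝ) * 6 := by exact_mod_cast h1
    rw [← Finset.sum_filter_add_sum_filter_not Finset.univ (fun g => Y g ≠ X g), ← hE, ← hD,
      Finset.sum_congr rfl (fun g hg => show (x g * (x g + 1)) ^ 2 = 8 * x g + 5 by
        have h3 := (hgold g hg).2
        linear_combination (x g * x g + 3 * x g + 5) * h3),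
      Finset.sum_add_distrib, ← Finset.mul_sum, Finset.sum_const, nsmul_eq_mul] at h2
    linarith
  have t4 : ∑ g ∈ D, (x g * (x g + 1)) ^ 2 * (3 - x g) = (1 - (b : ℝ)) * (Fintype.card G : ℝ) := by
    have h1 : ∑ g, P g * P g * (3 - X g) = N * (6 - (b : ℂ)) := by
      simp only [mul_sub, Finset.sum_sub_distrib]
      rw [← Finset.sum_mul, s3, s4]
      ring
    rw [Finset.sum_congr rfl (fun g _ => show P g * P g * (3 - X g) =
      (((x g * (x g + 1)) ^ 2 * (3 - x g) : ℝ) : ℂ) by
        rw [hPx g, hXx g]; push_cast; ring), ← Complex.ofReal_sum, hN] at h1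
    have h2 : ∑ g, (x g * (x g + 1)) ^ 2 * (3 - x g) = (Fintype.card G : ℝ) * (6 - (b : ℝ)) := by
      exact_mod_cast h1
    rw [← Finset.sum_filter_add_sum_filter_not Finset.univ (fun g => Y g ≠ X g), ← hE, ← hD,
      Finset.sum_congr rfl (fun g hg => show (x g * (x g + 1)) ^ 2 * (3 - x g) = 11 * x g + 7 by
        have h3 := (hgold g hg).2
        linear_combination ((x g * x g + 3 * x g + 5) * (3 - x g) - 8) * h3),
      Finset.sum_add_distrib, ← Finset.mul_sum, Finset.sum_const, nsmul_eq_mul] at h2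
    linarith
  have hle : ∀ g, x g ≤ 3 := fun g => by
    have h := Cfsg.Lib.Chars.IsCharacter.re_le hX.char g
    rw [hX.one] at h
    simpa [hx] using h
  have hbR : (1 : ℝ) ≤ b := by exact_mod_cast hb1
  have hz : ∀ g ∈ D, (x g * (x g + 1)) ^ 2 * (3 - x g) = 0 := by
    have hnn : ∀ g ∈ D, 0 ≤ (x g * (x g + 1)) ^ 2 * (3 - x g) := fun g _ =>
      mul_nonneg (sq_nonneg _) (sub_nonneg.2 (hle g))
    refine (Finset.sum_eq_zero_iff_of_nonneg hnn).1 (le_antisymm ?_ (Finset.sum_nonneg hnn))
    rw [t4]
    nlinarith [(Nat.cast_nonneg _ : (0 : ℝ) ≤ Fintype.card G)]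
  have hK : ∑ g ∈ D, (x g * (x g + 1)) ^ 2 = 144 * (Nat.card {g : G // X g = 3} : ℝ) := by
    rw [Nat.card_eq_fintype_card, Fintype.card_subtype]
    rw [Finset.sum_congr rfl (fun g hg => show (x g * (x g + 1)) ^ 2 = if X g = 3 then (144 : ℝ) else 0 by
      split_ifs with h3
      · have : x g = 3 := by simp [hx, h3]
        rw [this]; norm_num
      · rcases mul_eq_zero.1 (hz g hg) with h | h
        · exact h
        · exact absurd (by rw [hXx g, show x g = 3 by linarith]; norm_num) h3),
      ← Finset.sum_filter, Finset.sum_const, nsmul_eq_mul, mul_comm]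
    congr 3
    ext g
    simp only [hD, Finset.mem_filter, Finset.mem_univ, true_and]
    exact ⟨fun h => h.2, fun h => ⟨not_not.2 ((hX.ker_iff hd hY h).trans h.symm), h⟩⟩
  have : (Fintype.card G : ℝ) = 60 * (Nat.card {g : G // X g = 3} : ℝ) := by linarith
  rw [Nat.card_eq_fintype_card (α := G)]
  exact_mod_cast this

end Cfsg.Lib.FourDrop
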