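import Mathlib
import Cfsg.Agent.Chars.FourDrop.Moments
import Cfsg.Agent.Chars.PrimePairs
import Cfsg.Agent.S0493
import Cfsg.Agent.Classical.Misc.SixtyGroup

/-!
# The group is perfect with a quotient alternating of degree five, and `u` has centraliser of order four
-/

set_option autoImplicit false
set_option linter.unusedSectionVars false

namespace Cfsg.Lib.FourDrop

open Cfsg.Lib.Chars
open scoped ComplexConjugate

universe w

/-- A perfect group of order sixty is alternating. -/
theorem alt_of_perfect {Q : Type w} [Group Q] [Finite Q] (hp : commutator Q = ⊤) (hc : Nat.card Q = 60) :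
    Nonempty (Q ≃* alternatingGroup (Fin 5)) := by
  classical
  haveI : Nontrivial Q := Finite.one_lt_card_iff_nontrivial.1 (by omega)
  have hbot : (⊥ : Subgroup Q).Normal ∧ (⊥ : Subgroup Q) ≠ ⊤ := ⟨inferInstance, bot_ne_top⟩
  obtain ⟨N, -, ⟨hNn, hNt⟩, hmax⟩ :=
    Finite.exists_le_maximal (p := fun N : Subgroup Q => N.Normal ∧ N ≠ ⊤) hbot
  haveI := hNn
  set π := QuotientGroup.mk' N
  have hπ : Function.Surjective π := QuotientGroup.mk'_surjective N
  haveI : Nontrivial (Q ⧸ N) := QuotientGroup.nontrivial_iff.2 hNt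
  haveI : IsSimpleGroup (Q ⧸ N) := ⟨fun H hH => by
    have hle : N ≤ H.comap π := fun x hx => by
      show π x ∈ H
      rw [(QuotientGroup.eq_one_iff x).2 hx |> fun h => show π x = 1 from h]
      exact one_mem H
    by_cases ht : H.comap π = ⊤
    · refine Or.inr ?_
      rw [← Subgroup.map_comap_eq_self_of_surjective hπ H, ht, Subgroup.map_top_of_surjective π hπ]
    · refine Or.inl ?_
      have := le_antisymm (hmax ⟨hH.comap π, ht⟩ hle) hle
      rw [← Subgroup.map_comap_eq_self_of_surjective hπ H, this, QuotientGroup.map_mk'_self]⟩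
  have hnc : ¬ IsCyclic (Q ⧸ N) := by
    intro hcy
    haveI := hcy
    letI : CommGroup (Q ⧸ N) := IsCyclic.commGroup
    have hle := Abelianization.commutator_subset_ker π
    rw [hp, QuotientGroup.ker_mk'] at hle
    exact hNt (top_le_iff.1 hle)
  have hle : Nat.card (Q ⧸ N) ≤ 100 := by
    rw [← Subgroup.index_eq_card]
    exact (Nat.le_of_dvd (by omega) (hc ▸ N.index_dvd_card)).trans (by norm_num)
  have h60 := Cfsg.Agent.S0493.result hnc hle
  have hN : N = ⊥ := by
    rw [← Subgroup.card_eq_one]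
    have := Subgroup.card_eq_card_quotient_mul_card_subgroup N
    rw [hc, h60] at this
    omega
  subst hN
  obtain ⟨e⟩ := Cfsg.Lib.Classical.SixtyGroup.iso_alt_five ‹IsSimpleGroup (Q ⧸ (⊥ : Subgroup Q))› h60
  exact ⟨QuotientGroup.quotientBot.symm.trans e⟩

variable {G : Type w} [Group G] [Fintype G] {u : G}

local notation "⟪" a ", " b "⟫" => Cfsg.classInner a b

theorem exists_three (hd : Drop u) (hu : u ≠ 1) : ∃ χ : G → ℂ, Three u χ := by
  classical
  by_contra hno
  push Not at hno
  have hre : ∀ χ : Cfsg.IrrCharacter G, 0 ≤ ((χ : G → ℂ) u).re := by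
    intro χ
    by_contra h
    push Not at h
    obtain ⟨h1, h2⟩ := neg_value hd χ h
    exact hno _ ⟨χ.2, h1, h2⟩
  have h := sum_deg_mul u
  rw [if_neg hu] at h
  have hre0 := congrArg Complex.re h
  rw [Complex.re_sum, Complex.zero_re] at hre0
  have hnn : ∀ χ : Cfsg.IrrCharacter G, 0 ≤ ((χ : G → ℂ) 1 * (χ : G → ℂ) u).re := by
    intro χ
    obtain ⟨n, -, hn⟩ := IsIrrCharacter.apply_one χ.2
    rw [hn, Complex.mul_re]
    simp only [Complex.natCast_re, Complex.natCast_im, zero_mul, sub_zero]
    exact mul_nonneg (Nat.cast_nonneg _) (hre χ)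
  have h1 := (Finset.sum_eq_zero_iff_of_nonneg fun χ _ => hnn χ).1 hre0 ⟨triv, irr_triv⟩ (Finset.mem_univ _)
  simp [triv] at h1

theorem perfect (hd : Drop u) : commutator G = ⊤ := by
  rw [← Subgroup.index_eq_one, ← PrimePairs.card_linear G, Nat.card_eq_one_iff_unique]
  exact ⟨⟨fun a b => Subtype.ext (Subtype.ext ((linear_eq_triv hd a.1.2 a.2).trans
    (linear_eq_triv hd b.1.2 b.2).symm))⟩, ⟨⟨⟨triv, irr_triv⟩, rfl⟩⟩⟩

/-- The kernel, the quotient and the centraliser. -/
theorem kernel (hd : Drop u) (hu : u ≠ 1) :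
    ∃ (M : Subgroup G) (_ : M.Normal), Nonempty (G ⧸ M ≃* alternatingGroup (Fin 5)) ∧ u ∉ M ∧ u * u ∈ M ∧
      Nat.card (Subgroup.centralizer ({u} : Set G)) = 4 := by
  classical
  obtain ⟨χ, hχ⟩ := exists_three hd hu
  obtain ⟨X, b, hX, hXne, hb, hb1⟩ := hχ.exists_second hd
  have hG := hX.card_eq hd hχ hXne hb hb1
  set M := kerSubgroup X hX.char with hMdef
  have hmem : ∀ g, g ∈ M ↔ X g = 3 := fun g => by rw [hMdef, mem_kerSubgroup hX.char g, hX.one]
  haveI hMn : M.Normal := kerSubgroup_normal hX.char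
  have hMc : Nat.card M = Nat.card {g : G // X g = 3} := Nat.card_congr (Equiv.subtypeEquivRight hmem)
  rw [← hMc] at hG
  have hQ : Nat.card (G ⧸ M) = 60 := by
    have := Subgroup.card_eq_card_quotient_mul_card_subgroup M
    rw [hG] at this
    exact (Nat.eq_of_mul_eq_mul_right Nat.card_pos this).symm
  have hQp : commutator (G ⧸ M) = ⊤ := by
    have hπ := QuotientGroup.mk'_surjective M
    rw [_root_.commutator_def, ← Subgroup.map_top_of_surjective _ hπ, ← Subgroup.map_commutator,
      ← _root_.commutator_def, perfect hd]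
  have hu2 : u * u ∈ M := by
    rw [hmem, sq_value hd hX.char hX.one, hX.val]
    norm_num
  have huM : u ∉ M := by rw [hmem, hX.val]; norm_num
  refine ⟨M, hMn, alt_of_perfect hQp hQ, huM, hu2, ?_⟩
  -- the three classes of non-vanishing characters
  set K : ℕ := Nat.card M with hK
  set T : Finset (Cfsg.IrrCharacter G) := Finset.univ.filter (fun φ => Three u (φ : G → ℂ)) with hT
  set a : Cfsg.IrrCharacter G := ⟨triv, irr_triv⟩ with ha
  set F : Cfsg.IrrCharacter G := ⟨five X, hX.five_irr hd⟩ with hF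
  have haT : a ∉ T := fun h => (Finset.mem_filter.1 h).2.ne_triv rfl
  have hFT : F ∉ T := fun h => by
    have := (Finset.mem_filter.1 h).2.one
    rw [show ((F : Cfsg.IrrCharacter G) : G → ℂ) = five X from rfl, hX.five_one] at this
    norm_num at this
  have haF : a ≠ F := fun h => by
    have := congrArg (fun φ : Cfsg.IrrCharacter G => (φ : G → ℂ) 1) h
    simp [ha, hF, triv, hX.five_one] at this
  have hk2 : 2 ≤ T.card := by
    refine Finset.one_lt_card.2 ⟨⟨X, hX.irr⟩, ?_, ⟨χ, hχ.irr⟩, ?_, fun e => hXne (congrArg Subtype.val e)⟩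
    · exact Finset.mem_filter.2 ⟨Finset.mem_univ _, hX⟩
    · exact Finset.mem_filter.2 ⟨Finset.mem_univ _, hχ⟩
  set U : Finset (Cfsg.IrrCharacter G) := insert a (insert F T) with hU
  have hUc : ∀ f : Cfsg.IrrCharacter G → ℝ, ∑ φ ∈ U, f φ = f a + (f F + ∑ φ ∈ T, f φ) := fun f => by
    rw [hU, Finset.sum_insert (by simp [haF, haT]), Finset.sum_insert hFT]
  -- there are at most three of degree three
  have hk3 : T.card ≤ 3 := by
    let f : G → ℂ := fun g => if g ∈ M then 1 else 0
    have hf : Cfsg.IsClassFunction G f := fun g h => by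
      have : h * g * h⁻¹ ∈ M ↔ g ∈ M :=
        ⟨fun H => by simpa [mul_assoc] using hMn.conj_mem _ H h⁻¹, fun H => hMn.conj_mem _ H h⟩
      simp only [f, this]
    have hself : ⟪f, f⟫ = (1 / 60 : ℂ) := by
      rw [classInner_def, Finset.sum_congr rfl (fun g _ => show f g * conj (f g) = if g ∈ M then 1 else 0 by
        simp only [f]; split_ifs <;> simp), Finset.sum_boole,
        show (Finset.univ.filter fun g => g ∈ M).card = Nat.card M by
          rw [Nat.card_eq_fintype_card, Fintype.card_subtype], hG]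
      have : (K : ℂ) ≠ 0 := by exact_mod_cast (Nat.card_pos (α := M)).ne'
      rw [show Nat.card M = K from rfl]
      push_cast
      field_simp
    have hcoef : ∀ (φ : Cfsg.IrrCharacter G) (d : ℝ), (∀ g ∈ M, (φ : G → ℂ) g = d) →
        (⟪f, (φ : G → ℂ)⟫ * conj ⟪f, (φ : G → ℂ)⟫).re = (d / 60) ^ 2 := by
      intro φ d hd'
      have e : ⟪f, (φ : G → ℂ)⟫ = ((d / 60 : ℝ) : ℂ) := by
        rw [classInner_def, Finset.sum_congr rfl (fun g _ => show f g * conj ((φ : G → ℂ) g) =
          if g ∈ M then (d : ℂ) else 0 by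
            simp only [f]
            split_ifs with h
            · rw [hd' g h, one_mul, Complex.conj_ofReal]
            · rw [zero_mul]), ← Finset.sum_filter, Finset.sum_const,
          show (Finset.univ.filter fun g => g ∈ M).card = Nat.card M by
            rw [Nat.card_eq_fintype_card, Fintype.card_subtype], hG]
        have : (K : ℂ) ≠ 0 := by exact_mod_cast (Nat.card_pos (α := M)).ne'
        rw [nsmul_eq_mul, show Nat.card M = K from rfl]
        push_cast
        field_simp
      rw [e, Complex.conj_ofReal, ← Complex.ofReal_mul, Complex.ofReal_re, sq]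
    have hdec := classInner_self_decomp (fun φ : Cfsg.IrrCharacter G => ⟪f, (φ : G → ℂ)⟫)
    rw [← classFunction_expand hf, hself] at hdec
    have hre := congrArg Complex.re hdec
    rw [Complex.re_sum] at hre
    have hle := Finset.sum_le_sum_of_subset_of_nonneg (Finset.subset_univ U)
      (f := fun φ : Cfsg.IrrCharacter G => (⟪f, (φ : G → ℂ)⟫ * conj ⟪f, (φ : G → ℂ)⟫).re)
      (fun φ _ _ => by rw [Complex.mul_conj, Complex.ofReal_re]; exact Complex.normSq_nonneg _)
    rw [← hre, hUc, hcoef a 1 (fun g _ => by simp [ha, triv]),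
      hcoef F 5 (fun g hg => by simp [hF, five, triv, (hmem g).1 hg]; norm_num),
      Finset.sum_congr rfl (fun φ hφ => hcoef φ 3 (fun g hg => by
        simpa using hX.ker_iff hd (Finset.mem_filter.1 hφ).2 ((hmem g).1 hg))),
      Finset.sum_const, nsmul_eq_mul] at hle
    norm_num at hle
    have : (T.card : ℝ) ≤ 3.8 := by linarith
    have h4 : (T.card : ℝ) < 4 := by linarith
    have : T.card < 4 := by exact_mod_cast h4
    omega
  -- the remaining characters vanish
  let t : Cfsg.IrrCharacter G → ℝ := fun φ => ((φ : G → ℂ) 1 * (φ : G → ℂ) u).re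
  have hrest : ∀ φ ∉ U, (φ : G → ℂ) u = 0 ∨ 5 ≤ t φ := by
    intro φ hφ
    by_cases h0 : (φ : G → ℂ) u = 0
    · exact Or.inl h0
    have h1 : (φ : G → ℂ) ≠ triv := fun e => hφ (by simp [hU, ha, Subtype.ext_iff, e])
    obtain ⟨n, hn2, hn1, hnu⟩ := value hd φ h1 h0
    rcases lt_or_ge n 5 with hn | hn
    · exfalso
      rcases (show n = 4 ∨ n ≤ 3 by omega) with rfl | hn
      · exact h0 (by rw [hnu]; norm_num)
      · have hneg : ((φ : G → ℂ) u).re < 0 := by
          rw [hnu]
          have : (n : ℝ) ≤ 3 := by exact_mod_cast hn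
          simp
          linarith
        obtain ⟨g1, g2⟩ := neg_value hd φ hneg
        exact hφ (Finset.mem_insert_of_mem (Finset.mem_insert_of_mem
          (Finset.mem_filter.2 ⟨Finset.mem_univ _, φ.2, g1, g2⟩)))
    · refine Or.inr ?_
      have : (5 : ℝ) ≤ n := by exact_mod_cast hn
      simp only [t, hn1, hnu]
      simp
      nlinarith
  have hsum : ∑ φ, t φ = 0 := by
    have := congrArg Complex.re (sum_deg_mul u)
    rwa [if_neg hu, Complex.re_sum, Complex.zero_re] at this
  have hTt : ∑ φ ∈ T, t φ = T.card * (-3 : ℝ) := by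
    rw [← nsmul_eq_mul, ← Finset.sum_const]
    refine Finset.sum_congr rfl fun φ hφ => ?_
    have h := (Finset.mem_filter.1 hφ).2
    simp [t, h.one, h.val]
  rw [← Finset.sum_compl_add_sum U, hUc, hTt] at hsum
  have hta : t a = 1 := by simp [t, ha, triv]
  have htF : t F = 5 := by simp [t, hF, hX.five_one, hX.five_val]
  rw [hta, htF] at hsum
  have hvan : ∀ φ ∉ U, (φ : G → ℂ) u = 0 := by
    intro φ hφ
    refine (hrest φ hφ).resolve_right fun h5 => ?_
    have hge := Finset.single_le_sum (s := Uᶜ) (f := t) (fun ψ hψ => by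
      rcases hrest ψ (Finset.mem_compl.1 hψ) with h | h
      · simp [t, h]
      · linarith) (Finset.mem_compl.2 hφ)
    have : (T.card : ℝ) ≤ 3 := by exact_mod_cast hk3
    linarith
  have hk : T.card = 2 := by
    rw [Finset.sum_eq_zero (s := Uᶜ) (fun φ hφ => by simp [t, hvan φ (Finset.mem_compl.1 hφ)])] at hsum
    have : (T.card : ℝ) = 2 := by linarith
    exact_mod_cast this
  have hC := sum_norm_sq_irr u
  have hTn : ∑ φ ∈ T, ‖(φ : G → ℂ) u‖ ^ 2 = T.card * (1 : ℝ) := by
    rw [← nsmul_eq_mul, ← Finset.sum_const]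
    refine Finset.sum_congr rfl fun φ hφ => ?_
    simp [(Finset.mem_filter.1 hφ).2.val]
  rw [← Finset.sum_compl_add_sum U, hUc, hTn, Finset.sum_eq_zero (s := Uᶜ) (fun φ hφ => by
    simp [hvan φ (Finset.mem_compl.1 hφ)]), hk] at hC
  simp [ha, hF, triv, hX.five_val] at hC
  have h4 : (Nat.card (Subgroup.centralizer ({u} : Set G)) : ℝ) = 4 := by
    rw [Nat.card_eq_fintype_card]
    linarith
  exact_mod_cast h4

end Cfsg.Lib.FourDrop
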